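import Groth.Prelude.Def_BigSite
import Groth.Agent.Sga4A.IntegralSection
import Groth.Agent.Sga4h.IntPushZero

/-!
# Conditions (A), (B), (C) for integral morphisms
-/

set_option autoImplicit false
universe u

open CategoryTheory CategoryTheory.Limits AlgebraicGeometry Opposite

namespace K300.IntProps

open Groth.Agent Groth.Agent.Etbase

/-- Étale morphisms to `X`, `X` integral over `Y`, have sections over étale neighbourhoods of points of `Y`
whose fibre is covered. -/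
theorem exists_factor {X Y W : Scheme.{u}} (f : X ⟶ Y) [IsIntegralHom f] (p : W ⟶ X) [Etale p] (y : Y)
    (h : ∀ x : X, f x = y → x ∈ Set.range p) :
    ∃ (V : Scheme.{u}) (v : V ⟶ Y) (_ : Etale v) (y' : V) (_ : v y' = y) (σ : pullback f v ⟶ W),
      σ ≫ p = pullback.fst f v := by
  let Ω : Type u := SeparableClosure (Y.residueField y)
  let ξ : Spec (.of Ω) ⟶ Y := Spec.map (CommRingCat.ofHom
    (algebraMap (Y.residueField y) Ω)) ≫ Y.fromSpecResidueField y
  have hξ : ξ default = y := by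
    rw [Scheme.Hom.comp_apply]
    exact Scheme.fromSpecResidueField_apply _ _
  obtain ⟨N, g, hg, l, hl, hN⟩ := Sga4A.EtSplit.exists_etale_factor f p ξ (fun x hx => h x (hx.trans hξ))
  obtain ⟨σ, hσ⟩ := hN (pullback f g) (pullback.fst f g) (pullback.snd f g) pullback.condition
  exact ⟨Spec N, g, hg, l default,
    (congrArg (fun k : Spec (.of Ω) ⟶ Y => k default) hl).trans hξ, σ, hσ⟩

/-- étale schemes can be shrunk so that the fibre is one point -/
theorem exists_singleton_fibre {X U : Scheme.{u}} (g : U ⟶ X) [Etale g] (u : U) :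
    ∃ U' : U.Opens, u ∈ U' ∧ ∀ u' : U, u' ∈ U' → g u' = g u → u' = u := by
  have h00 : LocallyQuasiFinite g := Desc.LQF.of_etale g
  have h1 := g.isDiscrete_preimage_singleton (g u)
  obtain ⟨U', hU, hUw⟩ := isDiscrete_iff_forall_mem_exists_isOpen.1 h1 u rfl
  refine ⟨⟨U', hU⟩, ?_, ?_⟩
  · have : u ∈ U' ∩ g ⁻¹' {g u} := by rw [hUw]; rfl
    exact this.1
  · intro u' h1 h2
    have h3 : u' ∈ U' ∩ g ⁻¹' {g u} := ⟨h1, h2⟩
    rw [hUw] at h3
    exact h3

/-- the disjoint union of a family of étale morphisms -/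
theorem etale_sigmaDesc {X : Scheme.{u}} {ι : Type u} {U : ι → Scheme.{u}} (g : ∀ i, U i ⟶ X)
    (hg : ∀ i, Etale (g i)) : Etale (Sigma.desc g) :=
  IsZariskiLocalAtSource.sigmaDesc (P := EtCoh.etaleMP.{u}) hg

theorem sigma_exists {ι : Type u} (U : ι → Scheme.{u}) (x : (∐ U : Scheme.{u})) :
    ∃ (i : ι) (y : U i), Sigma.ι U i y = x := by
  obtain ⟨⟨i, y⟩, hy⟩ := (sigmaMk U).surjective x
  exact ⟨i, y, (sigmaMk_mk U i y).symm.trans hy⟩

theorem sigma_disjoint {ι : Type u} (U : ι → Scheme.{u}) (i j : ι) (hij : i ≠ j) (x : U i) (y : U j) :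
    Sigma.ι U i x ≠ Sigma.ι U j y := by
  intro h
  have h1 : sigmaMk U ⟨i, x⟩ = sigmaMk U ⟨j, y⟩ := by
    rw [sigmaMk_mk, sigmaMk_mk]
    exact h
  exact hij (congrArg Sigma.fst ((sigmaMk U).injective h1))

theorem isClosed_range_sigmaι {ι : Type u} (U : ι → Scheme.{u}) (i : ι) :
    IsClosed (Set.range (Sigma.ι U i)) := by
  have h : (Set.range (Sigma.ι U i))ᶜ = ⋃ (j : ι) (_ : j ≠ i), Set.range (Sigma.ι U j) := by
    ext x
    simp only [Set.mem_compl_iff, Set.mem_range, Set.mem_iUnion, exists_prop]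
    constructor
    · intro hx
      obtain ⟨j, y, hy⟩ := sigma_exists U x
      refine ⟨j, ?_, y, hy⟩
      rintro rfl
      exact hx ⟨y, hy⟩
    · rintro ⟨j, hj, y, rfl⟩ ⟨z, hz⟩
      exact sigma_disjoint U j i hj y z hz.symm
  rw [← isOpen_compl_iff, h]
  exact isOpen_iUnion fun j => isOpen_iUnion fun _ => (Sigma.ι U j).isOpenEmbedding.isOpen_range

/-- Integral morphisms satisfy (B). -/
theorem propB {X Y : Scheme.{u}} (f : X ⟶ Y) [IsIntegralHom f] : BigSite.PropB f := by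
  intro V v _ ι U g hg hsurj
  have : IsIntegralHom (pullback.snd f v) := inferInstance
  have hp : Etale (Sigma.desc g) := etale_sigmaDesc g hg
  have hex : ∀ y : V, ∃ (V' : Scheme.{u}) (v' : V' ⟶ V) (_ : Etale v') (y' : V') (_ : v' y' = y)
      (σ : pullback (pullback.snd f v) v' ⟶ ∐ U), σ ≫ Sigma.desc g = pullback.fst (pullback.snd f v) v' := by
    intro y
    refine exists_factor (pullback.snd f v) (Sigma.desc g) y ?_
    intro x _
    obtain ⟨i, u, hu⟩ := hsurj x
    refine ⟨Sigma.ι U i u, ?_⟩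
    rw [← Scheme.Hom.comp_apply, Sigma.ι_desc]
    exact hu
  choose V' v' hv' y' hy' σ hσ using hex
  refine ⟨V, V', v', hv', fun y => ⟨y, y' y, hy' y⟩, fun y => ⟨ι, ?_⟩⟩
  let c : pullback f (v' y ≫ v) ⟶ pullback (pullback.snd f v) (v' y) :=
    pullback.lift (pullback.map f (v' y ≫ v) f v (𝟙 X) (v' y) (𝟙 Y) (by simp) (by simp))
      (pullback.snd _ _) (by rw [pullback.lift_snd])
  have hc : (c ≫ σ y) ≫ Sigma.desc g =
      pullback.map f (v' y ≫ v) f v (𝟙 X) (v' y) (𝟙 Y) (by simp) (by simp) := by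
    rw [Category.assoc, hσ, pullback.lift_fst]
  let W : ι → (pullback f (v' y ≫ v)).Opens := fun i => (c ≫ σ y) ⁻¹ᵁ (Sigma.ι U i).opensRange
  refine ⟨W, ?_, ?_, ?_⟩
  · intro a b hab
    rw [disjoint_iff]
    ext x
    simp only [TopologicalSpace.Opens.coe_inf, Set.mem_inter_iff, TopologicalSpace.Opens.coe_bot,
      Set.mem_empty_iff_false, iff_false, not_and]
    rintro ⟨p, hp⟩ ⟨q, hq⟩
    exact sigma_disjoint U a b hab p q (hp.trans hq.symm)
  · ext x
    simp only [TopologicalSpace.Opens.coe_iSup, Set.mem_iUnion, TopologicalSpace.Opens.coe_top,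
      Set.mem_univ, iff_true]
    obtain ⟨i, p, hp⟩ := sigma_exists U ((c ≫ σ y) x)
    exact ⟨i, p, hp⟩
  · intro a
    have hr : Set.range ((W a).ι ≫ c ≫ σ y) ⊆ Set.range (Sigma.ι U a) := by
      rintro _ ⟨x, rfl⟩
      exact x.2
    refine ⟨a, IsOpenImmersion.lift (Sigma.ι U a) ((W a).ι ≫ c ≫ σ y) hr, ?_⟩
    have h1 : g a = Sigma.ι U a ≫ Sigma.desc g := (Sigma.ι_desc g a).symm
    rw [h1, IsOpenImmersion.lift_fac_assoc, Category.assoc, hc]

/-- Integral morphisms satisfy (A). -/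
theorem propA {X Y : Scheme.{u}} (f : X ⟶ Y) [IsIntegralHom f] : BigSite.PropA f := by
  intro U g _ u
  obtain ⟨U', huU', hU'⟩ := exists_singleton_fibre g u
  let O : X.Opens := ⟨(closure {g u})ᶜ, isClosed_closure.isOpen_compl⟩
  let A : ULift.{u} Bool → Scheme.{u} := fun b => if b.down then (U' : Scheme.{u}) else (O : Scheme.{u})
  let a : ∀ b, A b ⟶ X := fun b => match b with
    | ⟨true⟩ => U'.ι ≫ g
    | ⟨false⟩ => O.ι
  have ha : ∀ b, Etale (a b) := fun b => match b with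
    | ⟨true⟩ => (inferInstance : Etale (U'.ι ≫ g))
    | ⟨false⟩ => (inferInstance : Etale O.ι)
  have hp : Etale (Sigma.desc a) := etale_sigmaDesc a ha
  obtain ⟨V, v, hv, y', hy', σ, hσ⟩ := exists_factor f (Sigma.desc a) (f (g u)) (by
    intro x hx
    by_cases hxt : x = g u
    · subst hxt
      refine ⟨Sigma.ι A ⟨true⟩ ⟨u, huU'⟩, ?_⟩
      rw [← Scheme.Hom.comp_apply, Sigma.ι_desc]
      rfl
    · have hxU : x ∈ O := by
        intro hx'
        have h1 : g u ⤳ x := specializes_iff_mem_closure.2 hx'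
        exact hxt (Sga3C.DimTop.eq_of_specializes_of_isIntegralHom f (g u) x h1 hx.symm).symm
      refine ⟨Sigma.ι A ⟨false⟩ ⟨x, hxU⟩, ?_⟩
      rw [← Scheme.Hom.comp_apply, Sigma.ι_desc]
      rfl)
  let W : (pullback f v).Opens := σ ⁻¹ᵁ (Sigma.ι A ⟨true⟩).opensRange
  have hr : Set.range (W.ι ≫ σ) ⊆ Set.range (Sigma.ι A ⟨true⟩) := by
    rintro _ ⟨x, rfl⟩
    exact x.2
  let k : (W : Scheme.{u}) ⟶ (U' : Scheme.{u}) := IsOpenImmersion.lift (Sigma.ι A ⟨true⟩) (W.ι ≫ σ) hr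
  have hk : k ≫ Sigma.ι A ⟨true⟩ = W.ι ≫ σ := IsOpenImmersion.lift_fac _ _ _
  have hdt : Sigma.ι A ⟨true⟩ ≫ Sigma.desc a = U'.ι ≫ g := Sigma.ι_desc a ⟨true⟩
  have hdf : Sigma.ι A ⟨false⟩ ≫ Sigma.desc a = O.ι := Sigma.ι_desc a ⟨false⟩
  have hkg : (k ≫ U'.ι) ≫ g = W.ι ≫ pullback.fst f v := by
    rw [Category.assoc, ← hdt, ← Category.assoc, hk, Category.assoc, hσ]
  refine ⟨V, v, hv, W, ?_, k ≫ U'.ι, hkg, ?_⟩
  · exact (isClosed_range_sigmaι A ⟨true⟩).preimage σ.continuous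
  · obtain ⟨z, hz1, hz2⟩ := Scheme.Pullback.exists_preimage_pullback (f := f) (g := v) (g u) y' hy'.symm
    have h1 : Sigma.desc a (σ z) = g u := by
      rw [← Scheme.Hom.comp_apply, hσ]
      exact hz1
    obtain ⟨⟨b⟩, p, hp⟩ := sigma_exists A (σ z)
    cases b with
    | false =>
      exfalso
      have h2 : O.ι p = g u := by
        rw [← h1, ← hp, ← Scheme.Hom.comp_apply, hdf]
      have h3 : O.ι p ∈ O := p.2
      rw [h2] at h3
      exact h3 (subset_closure rfl)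
    | true =>
      let w : (W : Scheme.{u}) := ⟨z, ⟨p, hp⟩⟩
      refine ⟨w, ?_⟩
      refine hU' _ (k w).2 ?_
      have h2 : g ((k ≫ U'.ι) w) = pullback.fst f v (W.ι w) := by
        rw [← Scheme.Hom.comp_apply, hkg, Scheme.Hom.comp_apply]
      exact h2.trans hz1

/-- Integral closed embeddings satisfy (C). -/
theorem propC {X Y : Scheme.{u}} (f : X ⟶ Y) [IsIntegralHom f]
    (hf : Function.Injective f) : BigSite.PropC f := by
  intro U g _
  have hex : ∀ u : U, ∃ (V : Scheme.{u}) (v : V ⟶ Y) (_ : Etale v) (σ : pullback f v ⟶ U),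
      σ ≫ g = pullback.fst f v ∧ u ∈ Set.range σ := by
    intro u
    obtain ⟨U', huU', hU'⟩ := exists_singleton_fibre g u
    obtain ⟨V, v, hv, y', hy', σ, hσ⟩ := exists_factor f (U'.ι ≫ g) (f (g u)) (by
      intro x hx
      refine ⟨⟨u, huU'⟩, ?_⟩
      exact (hf hx).symm)
    refine ⟨V, v, hv, σ ≫ U'.ι, by rw [Category.assoc, hσ], ?_⟩
    obtain ⟨z, hz1, -⟩ := Scheme.Pullback.exists_preimage_pullback (f := f) (g := v) (g u) y' hy'.symm
    refine ⟨z, ?_⟩
    refine hU' _ (σ z).2 ?_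
    have h2 : g ((σ ≫ U'.ι) z) = pullback.fst f v z := by
      rw [← Scheme.Hom.comp_apply, Category.assoc, hσ]
    exact h2.trans hz1
  choose V v hv σ hσ hu using hex
  have hd : Etale (Sigma.desc v) := etale_sigmaDesc v hv
  -- the pieces of `pullback f (Sigma.desc v)`
  let c : ∀ u : U, pullback f (v u) ⟶ pullback f (Sigma.desc v) := fun u =>
    pullback.lift (pullback.fst f (v u)) (pullback.snd f (v u) ≫ Sigma.ι V u) (by
      rw [Category.assoc, Sigma.ι_desc, pullback.condition])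
  have hsq : ∀ u : U, IsPullback (c u) (pullback.snd f (v u)) (pullback.snd f (Sigma.desc v)) (Sigma.ι V u) := by
    intro u
    have h1 : IsPullback (pullback.fst f (Sigma.desc v)) (pullback.snd f (Sigma.desc v)) f (Sigma.desc v) :=
      IsPullback.of_hasPullback _ _
    refine IsPullback.of_right (h₁₁ := c u) (h₁₂ := pullback.fst f (Sigma.desc v)) (h₂₁ := Sigma.ι V u)
      (h₂₂ := Sigma.desc v) (v₁₃ := f) ?_ (pullback.lift_snd _ _ _) h1
    rw [pullback.lift_fst, Sigma.ι_desc]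
    exact IsPullback.of_hasPullback _ _
  have hoi : ∀ u : U, IsOpenImmersion (c u) := fun u =>
    MorphismProperty.of_isPullback (P := @IsOpenImmersion) (hsq u).flip inferInstance
  have hrange : ∀ u : U, (c u).opensRange = (pullback.snd f (Sigma.desc v)) ⁻¹ᵁ (Sigma.ι V u).opensRange := by
    intro u
    ext x
    constructor
    · rintro ⟨z, rfl⟩
      refine ⟨pullback.snd f (v u) z, ?_⟩
      exact congrArg (fun t : pullback f (v u) ⟶ ∐ V => t z) (hsq u).w.symm
    · rintro ⟨z, hz⟩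
      obtain ⟨w, hw1, -⟩ := Scheme.Pullback.exists_preimage_pullback
        (f := pullback.snd f (Sigma.desc v)) (g := Sigma.ι V u) x z hz.symm
      refine ⟨(hsq u).isoPullback.inv w, ?_⟩
      rw [← hw1, ← Scheme.Hom.comp_apply, IsPullback.isoPullback_inv_fst]
  obtain ⟨hcol⟩ := nonempty_isColimit_cofanMk_of c (by
    ext x
    simp only [TopologicalSpace.Opens.coe_iSup, Set.mem_iUnion, TopologicalSpace.Opens.coe_top,
      Set.mem_univ, iff_true]
    obtain ⟨i, p, hp⟩ := sigma_exists V (pullback.snd f (Sigma.desc v) x)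
    refine ⟨i, ?_⟩
    rw [hrange]
    exact ⟨p, hp⟩) (by
    intro a b hab
    rw [Function.onFun, disjoint_iff]
    ext x
    simp only [TopologicalSpace.Opens.coe_inf, Set.mem_inter_iff, TopologicalSpace.Opens.coe_bot,
      Set.mem_empty_iff_false, iff_false, not_and]
    rw [hrange, hrange]
    rintro ⟨p, hp⟩ ⟨q, hq⟩
    exact sigma_disjoint V a b hab p q (hp.trans hq.symm))
  let τ : pullback f (Sigma.desc v) ⟶ U := hcol.desc (Cofan.mk U σ)
  have hτ : ∀ u, c u ≫ τ = σ u := fun u => hcol.fac (Cofan.mk U σ) ⟨u⟩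
  refine ⟨∐ V, Sigma.desc v, hd, τ, ?_, ⟨fun u => ?_⟩⟩
  · refine Cofan.IsColimit.hom_ext hcol _ _ fun u => ?_
    change c u ≫ τ ≫ g = c u ≫ pullback.fst _ _
    rw [← Category.assoc, hτ, hσ, pullback.lift_fst]
  · obtain ⟨z, hz⟩ := hu u
    refine ⟨c u z, ?_⟩
    rw [← Scheme.Hom.comp_apply, hτ, hz]

end K300.IntProps
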