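import Groth.Prelude.Def_BigSite
import Groth.Agent.Etbase.PushExact

/-!
# Condition (C), closedness and almost cocontinuity of base change
-/

set_option autoImplicit false
universe u

open CategoryTheory CategoryTheory.Limits AlgebraicGeometry Opposite

namespace K300.AlmostCocont

open Groth.Agent.Etbase Groth.Agent.Etbase.EtGlue

variable {X Y : Scheme.{u}} (f : X ⟶ Y)

/-- The base change of `V`, as an object over `pullback f v`. -/
noncomputable def swap {X Y : Scheme.{u}} (f : X ⟶ Y) (V : Y.Etale) :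
    ((EtCoh.bc f).obj V).left ≅ pullback f V.hom :=
  pullbackSymmetry V.hom f

theorem swap_fst (V : Y.Etale) :
    (swap f V).hom ≫ pullback.fst f V.hom = ((EtCoh.bc f).obj V).hom :=
  pullbackSymmetry_hom_comp_fst V.hom f

theorem swap_snd (V : Y.Etale) :
    (swap f V).hom ≫ pullback.snd f V.hom =
      (pullback.fst V.hom f : ((EtCoh.bc f).obj V).left ⟶ V.left) :=
  pullbackSymmetry_hom_comp_snd V.hom f

theorem isAlmostCocontinuous
    (hC : ∀ (V : Scheme.{u}) (v : V ⟶ Y) [Etale v], BigSite.PropC (pullback.snd f v))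
    (hcl : ∀ (V : Scheme.{u}) (v : V ⟶ Y) [Etale v], IsClosedMap (pullback.snd f v).base) :
    BigSite.IsAlmostCocontinuous (EtCoh.bc f) Y.smallEtaleTopology X.smallEtaleTopology := by
  intro V R hR
  have hV : Etale V.hom := V.prop
  let R' : Sieve V :=
    { arrows := fun V' g => (⊥ : Sieve ((EtCoh.bc f).obj V')) ∈ X.smallEtaleTopology _ ∨
        R ((EtCoh.bc f).map g)
      downward_closed := by
        intro V' V'' g hg k
        rcases hg with hg | hg
        · left
          have h1 := X.smallEtaleTopology.pullback_stable ((EtCoh.bc f).map k) hg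
          rwa [Sieve.pullback_bot] at h1
        · right
          rw [Functor.map_comp]
          exact R.downward_closed hg _ }
  refine ⟨R', ?_, fun V' g hg => hg⟩
  rw [EtSite.mem_iff]
  intro x
  by_cases hx : x ∈ Set.range (pullback.snd f V.hom)
  · obtain ⟨z₀, rfl⟩ := hx
    let z : ((EtCoh.bc f).obj V).left := (swap f V).inv z₀
    rw [EtSite.mem_iff] at hR
    obtain ⟨U, g, y, hg, hy⟩ := hR z
    have hge : Etale g.left := inferInstance
    let g₁ : U.left ⟶ pullback f V.hom := g.left ≫ (swap f V).hom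
    have hg₁ : Etale g₁ := inferInstance
    obtain ⟨V₁, v₁, hv₁, h, hh, hs⟩ := hC V.left V.hom U.left g₁
    obtain ⟨p, hp⟩ := hs.surj y
    let V₂ : Y.Etale := Scheme.Etale.mk (v₁ ≫ V.hom)
    let g₂ : V₂ ⟶ V := MorphismProperty.Over.homMk v₁ rfl trivial
    -- the comparison morphism
    let c : ((EtCoh.bc f).obj V₂).left ⟶ pullback (pullback.snd f V.hom) v₁ :=
      pullback.lift (((EtCoh.bc f).map g₂).left ≫ (swap f V).hom)
        (pullback.fst V₂.hom f : ((EtCoh.bc f).obj V₂).left ⟶ V₂.left) (by
          rw [Category.assoc, swap_snd]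
          exact (EtCoh.isPullback_bc_map f g₂).w)
    have hc : (c ≫ h) ≫ g.left = ((EtCoh.bc f).map g₂).left := by
      have h1 : ((c ≫ h) ≫ g.left) ≫ (swap f V).hom = ((EtCoh.bc f).map g₂).left ≫ (swap f V).hom := by
        rw [Category.assoc, Category.assoc]
        exact (congrArg (fun t => c ≫ t) hh).trans (pullback.lift_fst _ _ _)
      exact (cancel_mono _).1 h1
    let σ : (EtCoh.bc f).obj V₂ ⟶ U := MorphismProperty.Over.homMk (c ≫ h) (by
      have h2 : g.left ≫ ((EtCoh.bc f).obj V).hom = U.hom := Over.w g.hom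
      have h3 : ((EtCoh.bc f).map g₂).left ≫ ((EtCoh.bc f).obj V).hom = ((EtCoh.bc f).obj V₂).hom :=
        Over.w ((EtCoh.bc f).map g₂).hom
      rw [← h2, ← Category.assoc, hc]
      exact h3) trivial
    have hσ : σ ≫ g = (EtCoh.bc f).map g₂ := by
      apply (Scheme.Etale.forget _ ⋙ Over.forget _).map_injective
      exact hc
    refine ⟨V₂, g₂, pullback.snd (pullback.snd f V.hom) v₁ p, Or.inr ?_, ?_⟩
    · rw [← hσ]
      exact R.downward_closed hg _
    · change v₁ (pullback.snd (pullback.snd f V.hom) v₁ p) = pullback.snd f V.hom z₀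
      rw [← Scheme.Hom.comp_apply, ← pullback.condition, ← hh, Scheme.Hom.comp_apply,
        Scheme.Hom.comp_apply, hp]
      congr 1
      change (g.left ≫ (swap f V).hom) y = z₀
      rw [Scheme.Hom.comp_apply, hy]
      change (swap f V).hom ((swap f V).inv z₀) = z₀
      rw [← Scheme.Hom.comp_apply, Iso.inv_hom_id]
      rfl
  · have h1 : IsClosed (Set.range (pullback.snd f V.hom)) := (hcl V.left V.hom).isClosed_range
    let O : V.left.Opens := ⟨(Set.range (pullback.snd f V.hom))ᶜ, h1.isOpen_compl⟩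
    refine ⟨opn V O, opnι V O, ⟨x, hx⟩, Or.inl ?_, rfl⟩
    rw [EtSite.mem_iff]
    intro w
    exfalso
    let w' : ((EtCoh.bc f).obj V).left := ((EtCoh.bc f).map (opnι V O)).left w
    have h2 : (pullback.fst V.hom f : ((EtCoh.bc f).obj V).left ⟶ V.left) w' ∈ O := by
      have h3 := congrArg (fun t : ((EtCoh.bc f).obj (opn V O)).left ⟶ V.left => t w)
        (EtCoh.isPullback_bc_map f (opnι V O)).w
      have h4 : (pullback.fst V.hom f : ((EtCoh.bc f).obj V).left ⟶ V.left) w' =
        O.ι ((pullback.fst (opn V O).hom f : ((EtCoh.bc f).obj (opn V O)).left ⟶ (opn V O).left) w) := h3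
      rw [h4]
      exact Subtype.property _
    rw [← swap_snd] at h2
    exact h2 ⟨_, rfl⟩

end K300.AlmostCocont
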