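import Groth.Prelude.Def_EtCech
import Groth.Agent.Etbase.PushExact
import Groth.Agent.Etcore.CechFree

/-!
# The Čech complex of a family and of its disjoint union
-/

set_option autoImplicit false
universe w u

open CategoryTheory CategoryTheory.Limits AlgebraicGeometry Opposite

set_option linter.unusedSectionVars false

namespace K300.CechSum

open Groth.Agent Groth.Agent.Etbase Groth.Agent.Etbase.EtGlue

section Coprod

variable {ι : Type w} [Small.{u} ι] {T : ι → Scheme.{u}} {S : Scheme.{u}} (j : ∀ i, T i ⟶ S)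
  (h : IsColimit (Cofan.mk S j))

/-- the isomorphism with the chosen coproduct -/
noncomputable def coprodIso : ∐ T ≅ S :=
  (coproductIsCoproduct T).coconePointUniqueUpToIso h

theorem ι_coprodIso (i : ι) : Sigma.ι T i ≫ (coprodIso j h).hom = j i :=
  (coproductIsCoproduct T).comp_coconePointUniqueUpToIso_hom h ⟨i⟩

include h

theorem isOpenImmersion_inj (i : ι) : IsOpenImmersion (j i) := by
  rw [← ι_coprodIso j h i]
  infer_instance

theorem exists_inj (s : S) : ∃ (i : ι) (t : T i), j i t = s := by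
  obtain ⟨i, t, ht⟩ : ∃ i t, Sigma.ι T i t = (coprodIso j h).inv s :=
    ⟨_, (sigmaOpenCover T).covers ((coprodIso j h).inv s)⟩
  refine ⟨i, t, ?_⟩
  rw [← ι_coprodIso j h i, Scheme.Hom.comp_apply, ht, ← Scheme.Hom.comp_apply, Iso.inv_hom_id]
  rfl

theorem inj_ne (i i' : ι) (hne : i ≠ i') (t : T i) (t' : T i') : j i t ≠ j i' t' := by
  intro he
  have h1 := disjoint_opensRange_sigmaι T i i' hne
  have h2 : Sigma.ι T i t = Sigma.ι T i' t' := by
    have h3 : (coprodIso j h).hom (Sigma.ι T i t) = (coprodIso j h).hom (Sigma.ι T i' t') := by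
      rw [← Scheme.Hom.comp_apply, ← Scheme.Hom.comp_apply, ι_coprodIso, ι_coprodIso]
      exact he
    exact (coprodIso j h).hom.isOpenEmbedding.injective h3
  rw [disjoint_iff] at h1
  have h5 : Sigma.ι T i t ∈ (Sigma.ι T i).opensRange ⊓ (Sigma.ι T i').opensRange :=
    ⟨⟨t, rfl⟩, ⟨t', h2.symm⟩⟩
  rw [h1] at h5
  exact h5

end Coprod

section Power

variable {X : Scheme.{u}} (F : EtCoh.Ab X) {U : X.Etale} [HasFiniteProducts (Over U)]
  {ι : Type (u + 1)} [Finite ι] (Uf : ι → Over U) (V : Over U) (incl : ∀ i, Uf i ⟶ V)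
  (hV : IsColimit (Cofan.mk V.left.left fun i => (incl i).left.left))

include hV

theorem mono_incl (i : ι) : Mono (incl i) := by
  have h1 : IsOpenImmersion (incl i).left.left :=
    isOpenImmersion_inj (T := fun i => (Uf i).left.left) (fun i => (incl i).left.left) hV i
  have h2 : Mono (incl i).left := by
    refine (Scheme.Etale.forget X ⋙ Over.forget X).mono_of_mono_map ?_
    change Mono (incl i).left.left
    infer_instance
  exact (Over.forget U).mono_of_mono_map h2

variable (α : Type) [Finite α] [HasProductsOfShape α (Over U)]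

/-- the map on powers -/
noncomputable abbrev pm (x : α → ι) : (∏ᶜ (Uf ∘ x)) ⟶ (∏ᶜ fun _ : α => V) :=
  Limits.Pi.map fun a => incl (x a)

theorem mono_pm (x : α → ι) : Mono (pm Uf V incl α x).left := by
  have h1 : ∀ a, Mono (incl (x a)) := fun a => mono_incl Uf V incl hV (x a)
  have h2 : Mono (pm Uf V incl α x) := inferInstance
  infer_instance

theorem pm_π (x : α → ι) (a : α) :
    (pm Uf V incl α x).left ≫ (Pi.π (fun _ : α => V) a).left =
      (Pi.π (Uf ∘ x) a).left ≫ (incl (x a)).left := by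
  rw [← Over.comp_left, ← Over.comp_left, Limits.Pi.map_π]

theorem pm_disjoint (x y : α → ι) (hxy : x ≠ y) :
    Disjoint (Set.range (pm Uf V incl α x).left.left) (Set.range (pm Uf V incl α y).left.left) := by
  rw [Set.disjoint_left]
  rintro _ ⟨s, rfl⟩ ⟨t, ht⟩
  obtain ⟨a, ha⟩ := Function.ne_iff.1 hxy
  have e1 := congrArg (fun k => (k : (∏ᶜ (Uf ∘ x)).left ⟶ V.left).left s) (pm_π Uf V incl hV α x a)
  have e2 := congrArg (fun k => (k : (∏ᶜ (Uf ∘ y)).left ⟶ V.left).left t) (pm_π Uf V incl hV α y a)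
  have e3 : (incl (x a)).left.left ((Pi.π (Uf ∘ x) a).left.left s) =
      (incl (y a)).left.left ((Pi.π (Uf ∘ y) a).left.left t) := by
    refine e1.symm.trans (Eq.trans ?_ e2)
    exact congrArg (Pi.π (fun _ : α => V) a).left.left ht.symm
  exact inj_ne (T := fun i => (Uf i).left.left) (fun i => (incl i).left.left) hV _ _ ha _ _ e3

theorem pm_range : ⋃ x : α → ι, Set.range (pm Uf V incl α x).left.left = Set.univ := by
  ext z
  simp only [Set.mem_iUnion, Set.mem_univ, iff_true]
  have h1 : ∀ a : α, ∃ (i : ι) (t : (Uf i).left.left), (incl i).left.left t =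
      (Pi.π (fun _ : α => V) a).left.left z := fun a =>
    exists_inj (T := fun i => (Uf i).left.left) (fun i => (incl i).left.left) hV _
  choose x t ht using h1
  refine ⟨x, ?_⟩
  have hoi : ∀ a, IsOpenImmersion (incl (x a)).left.left := fun a =>
    isOpenImmersion_inj (T := fun i => (Uf i).left.left) (fun i => (incl i).left.left) hV (x a)
  let W : (∏ᶜ fun _ : α => V).left.left.Opens :=
    ⟨⋂ a, (Pi.π (fun _ : α => V) a).left.left ⁻¹' Set.range (incl (x a)).left.left,
      isOpen_iInter_of_finite fun a => ((incl (x a)).left.left.isOpenEmbedding.isOpen_range).preimage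
        (Pi.π (fun _ : α => V) a).left.left.continuous⟩
  have hzW : z ∈ W := by
    change z ∈ ⋂ a, _
    rw [Set.mem_iInter]
    exact fun a => ⟨t a, ht a⟩
  have hW : ∀ a, Set.range ((opnι (∏ᶜ fun _ : α => V).left W) ≫ (Pi.π (fun _ : α => V) a).left).left ⊆
      Set.range (incl (x a)).left.left := by
    rintro a _ ⟨y, rfl⟩
    have hy : (opnι (∏ᶜ fun _ : α => V).left W).left y ∈ W := y.2
    exact Set.mem_iInter.1 hy a
  have hl : ∀ a, ∃ k : opn (∏ᶜ fun _ : α => V).left W ⟶ (Uf (x a)).left,
      k ≫ (incl (x a)).left = opnι (∏ᶜ fun _ : α => V).left W ≫ (Pi.π (fun _ : α => V) a).left := by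
    intro a
    have := hoi a
    refine ⟨MorphismProperty.Over.homMk (IsOpenImmersion.lift (incl (x a)).left.left _ (hW a)) ?_ trivial, ?_⟩
    · have h2 : (incl (x a)).left.left ≫ V.left.hom = (Uf (x a)).left.hom := Over.w (incl (x a)).left.hom
      refine (congrArg (fun k => IsOpenImmersion.lift (incl (x a)).left.left _ (hW a) ≫ k) h2).symm.trans ?_
      refine (IsOpenImmersion.lift_fac_assoc _ _ _ _).trans ?_
      exact Over.w ((opnι (∏ᶜ fun _ : α => V).left W) ≫ (Pi.π (fun _ : α => V) a).left).hom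
    · apply (Scheme.Etale.forget _ ⋙ Over.forget _).map_injective
      exact IsOpenImmersion.lift_fac _ _ _
  choose k hk using hl
  let O : Over U := Over.mk (opnι (∏ᶜ fun _ : α => V).left W ≫ (∏ᶜ fun _ : α => V).hom)
  let κ : O ⟶ ∏ᶜ (Uf ∘ x) := Pi.lift fun a => Over.homMk (k a) (by
    change k a ≫ (Uf (x a)).hom = opnι (∏ᶜ fun _ : α => V).left W ≫ (∏ᶜ fun _ : α => V).hom
    rw [← Over.w (incl (x a)), ← Category.assoc, hk a, Category.assoc, Over.w])
  have hκ : κ ≫ pm Uf V incl α x = Over.homMk (opnι (∏ᶜ fun _ : α => V).left W) rfl := by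
    refine Limits.Pi.hom_ext _ _ fun a => ?_
    rw [Category.assoc, Limits.Pi.map_π, ← Category.assoc]
    have h3 : κ ≫ Pi.π (Uf ∘ x) a = Over.homMk (k a) _ := Pi.lift_π _ _
    rw [h3]
    ext1
    exact hk a
  refine ⟨κ.left.left ⟨z, hzW⟩, ?_⟩
  have h4 : (κ ≫ pm Uf V incl α x).left = opnι (∏ᶜ fun _ : α => V).left W := congrArg (fun q => q.left) hκ
  exact congrArg (fun q : opn (∏ᶜ fun _ : α => V).left W ⟶ (∏ᶜ fun _ : α => V).left =>
    q.left (⟨z, hzW⟩ : (opn (∏ᶜ fun _ : α => V).left W).left)) h4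

/-- `F` of a power of the disjoint union -/
theorem bijective_power (s : ∀ x : α → ι, F.obj.obj (op (∏ᶜ (Uf ∘ x)).left)) :
    ∃! t : F.obj.obj (op (∏ᶜ fun _ : α => V).left), ∀ x, F.obj.map (pm Uf V incl α x).left.op t = s x := by
  have h1 : ∀ x, Mono (pm Uf V incl α x).left := fun x => mono_pm Uf V incl hV α x
  exact existsUnique_glue_disjoint F (fun x => (pm Uf V incl α x).left) (pm_range Uf V incl hV α)
    (fun x y hxy => pm_disjoint Uf V incl hV α x y hxy) s

omit [HasFiniteProducts (Over U)] [Finite ι] hV in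
/-- The morphism of formal coproducts. -/
def gMor : (FormalCoproduct.mk ι Uf : FormalCoproduct.{u + 1} (Over U)) ⟶
    FormalCoproduct.mk PUnit.{u + 2} (fun _ => V) := ⟨fun _ => PUnit.unit, incl⟩

open Groth.Agent.Etcore.CechFree in
theorem isIso_evMap : IsIso (evMap F.obj (FormalCoproduct.powerMap (gMor Uf V incl) α)) := by
  rw [ConcreteCategory.isIso_iff_bijective]
  constructor
  · intro x y hxy
    apply ev_ext
    intro c
    have h1 : ∀ i : α → ι, F.obj.map (pm Uf V incl α i).left.op (comp F.obj x c) =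
        F.obj.map (pm Uf V incl α i).left.op (comp F.obj y c) := by
      intro i
      have h2 := congrArg (fun z => comp F.obj z i) hxy
      have h3 := comp_evMap F.obj (FormalCoproduct.powerMap (gMor Uf V incl) α) x i
      have h4 := comp_evMap F.obj (FormalCoproduct.powerMap (gMor Uf V incl) α) y i
      exact h3.symm.trans (h2.trans h4)
    obtain ⟨t, -, ht⟩ := bijective_power F Uf V incl hV α
      (fun i => F.obj.map (pm Uf V incl α i).left.op (comp F.obj x c))
    exact (ht _ (fun _ => rfl)).trans (ht _ (fun i => (h1 i).symm)).symm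
  · intro y
    obtain ⟨t, ht, -⟩ := bijective_power F Uf V incl hV α (fun i => comp F.obj y i)
    obtain ⟨x, hx⟩ := exists_ev F.obj
      (X := (FormalCoproduct.mk PUnit.{u + 2} (fun _ => V) : FormalCoproduct.{u + 1} (Over U)).power α)
      (fun _ => t)
    refine ⟨x, ?_⟩
    apply ev_ext
    intro i
    refine (comp_evMap F.obj (FormalCoproduct.powerMap (gMor Uf V incl) α) x i).trans ?_
    refine Eq.trans ?_ (ht i)
    exact congrArg _ (hx _)

end Power

section Cosimp

open FormalCoproduct

variable {C : Type*} [Category* C] {E E' : SimplicialObject (FormalCoproduct.{w} C)} (g : E ⟶ E')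
  (P : Cᵒᵖ ⥤ AddCommGrpCat.{w})

/-- the map of cosimplicial objects -/
noncomputable def cosimpIso
    (h : ∀ n, IsIso (((evalOp.{w} C AddCommGrpCat.{w}).obj P).map (g.app (op n)).op)) :
    (cosimplicialObjectFunctor E').obj P ≅ (cosimplicialObjectFunctor E).obj P :=
  NatIso.ofComponents
    (fun n => @asIso _ _ _ _ (((evalOp.{w} C AddCommGrpCat.{w}).obj P).map (g.app (op n)).op) (h n))
    (by
      intro n m f
      change ((evalOp.{w} C AddCommGrpCat.{w}).obj P).map (E'.map f.op).op ≫
        ((evalOp.{w} C AddCommGrpCat.{w}).obj P).map (g.app (op m)).op =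
        ((evalOp.{w} C AddCommGrpCat.{w}).obj P).map (g.app (op n)).op ≫
          ((evalOp.{w} C AddCommGrpCat.{w}).obj P).map (E.map f.op).op
      rw [← Functor.map_comp, ← Functor.map_comp, ← op_comp, ← op_comp, g.naturality])

end Cosimp

/-- The Čech complexes of a finite family and of its disjoint union are isomorphic. -/
theorem nonempty_iso {X : Scheme.{u}} (F : EtCoh.Ab X) (U : X.Etale)
    [HasFiniteProducts (Over U)] {ι : Type (u + 1)} [Finite ι] (Uf : ι → Over U)
    (V : Over U) (incl : ∀ i, Uf i ⟶ V)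
    (hV : IsColimit (Cofan.mk V.left.left fun i => (incl i).left.left)) :
    Nonempty (EtCech.cechComplex Uf F.obj ≅ EtCech.cechComplex (fun _ : PUnit.{u + 2} => V) F.obj) := by
  refine ⟨(AlgebraicTopology.alternatingCofaceMapComplex AddCommGrpCat.{u + 1}).mapIso
    (cosimpIso (FormalCoproduct.cechFunctor.map (gMor Uf V incl)) ((Over.forget U).op ⋙ F.obj)
      (fun n => ?_)).symm⟩
  exact isIso_evMap F Uf V incl hV (Fin (n.len + 1))

end K300.CechSum
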