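import Groth.Prelude.Def_BigSite
import Groth.Agent.Etbase.PushExact

/-!
# Condition (A) and the direct image

* `exists_clopen`: condition (A) phrased in the small étale sites.
* `exists_ext`: sections over `U` are, locally on `U`, restrictions of sections over some `X ×_Y V` (extended by zero).
* `push_reflects`: consequences of (A) for the direct image.
-/

set_option autoImplicit false
universe u

open CategoryTheory CategoryTheory.Limits AlgebraicGeometry Opposite

namespace K300.PropA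

open Groth.Agent.Etbase Groth.Agent.Etbase.EtGlue

variable {X Y : Scheme.{u}} {f : X ⟶ Y}

/-- Condition (A) in the small étale sites. -/
theorem exists_clopen (hA : BigSite.PropA f) (U : X.Etale) (u : U.left) :
    ∃ (V : Y.Etale) (W : ((EtCoh.bc f).obj V).left.Opens)
      (_ : IsClosed (W : Set ((EtCoh.bc f).obj V).left))
      (h : opn ((EtCoh.bc f).obj V) W ⟶ U) (w : (opn ((EtCoh.bc f).obj V) W).left),
      h.left w = u := by
  have hU : AlgebraicGeometry.Etale U.hom := U.prop
  obtain ⟨V, v, hv, W₀, hW₀, h, hh, z, hz⟩ := hA U.left U.hom u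
  let V' : Y.Etale := Scheme.Etale.mk v
  let e : ((EtCoh.bc f).obj V').left ⟶ pullback f v := (pullbackSymmetry v f).hom
  have he : IsIso e := inferInstanceAs (IsIso (pullbackSymmetry v f).hom)
  let W : ((EtCoh.bc f).obj V').left.Opens := e ⁻¹ᵁ W₀
  refine ⟨V', W, hW₀.preimage e.continuous, MorphismProperty.Over.homMk ((e ∣_ W₀) ≫ h) ?_ trivial,
    (inv (e ∣_ W₀)) z, ?_⟩
  · have h1 : e ≫ pullback.fst f v = ((EtCoh.bc f).obj V').hom :=
      pullbackSymmetry_hom_comp_fst v f
    change ((e ∣_ W₀) ≫ h) ≫ U.hom = W.ι ≫ ((EtCoh.bc f).obj V').hom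
    rw [Category.assoc, hh, morphismRestrict_ι_assoc, ← h1]
  · change ((e ∣_ W₀) ≫ h) _ = u
    rw [← Scheme.Hom.comp_apply, IsIso.inv_hom_id_assoc]
    exact hz

/-- Sections over `U` are, locally on `U`, restrictions of sections over some `X ×_Y V`. -/
theorem exists_ext (hA : BigSite.PropA f) (U : X.Etale) (u : U.left) :
    ∃ (V : Y.Etale) (W : X.Etale) (i : W ⟶ (EtCoh.bc f).obj V) (_ : Mono i) (W' : X.Etale)
      (i' : W' ⟶ (EtCoh.bc f).obj V) (_ : Mono i')
      (_ : Set.range i.left ∪ Set.range i'.left = Set.univ)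
      (_ : Disjoint (Set.range i.left) (Set.range i'.left)) (h : W ⟶ U) (w : W.left),
      h.left w = u := by
  obtain ⟨V, W, hW, h, w, hw⟩ := exists_clopen hA U u
  let W' : ((EtCoh.bc f).obj V).left.Opens := ⟨(W : Set _)ᶜ, hW.isOpen_compl⟩
  refine ⟨V, opn _ W, opnι _ W, inferInstance, opn _ W', opnι _ W', inferInstance, ?_, ?_, h, w, hw⟩
  · rw [range_opnι, range_opnι]
    exact Set.union_compl_self _
  · rw [range_opnι, range_opnι]
    exact disjoint_compl_right

/-- restriction of sections and maps of sheaves -/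
theorem app_map {F G : EtCoh.Ab X} (φ : F ⟶ G) {U V : X.Etale} (g : V ⟶ U)
    (s : F.obj.obj (op U)) :
    φ.hom.app (op V) (F.obj.map g.op s) = G.obj.map g.op (φ.hom.app (op U) s) :=
  ConcreteCategory.congr_hom (φ.hom.naturality g.op) s

theorem mono_iff {F G : EtCoh.Ab X} (φ : F ⟶ G) :
    Mono φ ↔ ∀ (U : X.Etale) (s : F.obj.obj (op U)), φ.hom.app (op U) s = 0 → s = 0 := by
  constructor
  · intro h U s hs
    have h1 : Mono ((sheafToPresheaf X.smallEtaleTopology AddCommGrpCat.{u + 1}).map φ) :=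
      inferInstance
    have h2 : Mono (φ.hom.app (op U)) :=
      (NatTrans.mono_iff_mono_app ((sheafToPresheaf X.smallEtaleTopology _).map φ)).1 h1 (op U)
    exact (AddCommGrpCat.mono_iff_injective _).1 h2 (hs.trans (map_zero (φ.hom.app (op U)).hom).symm)
  · intro h
    have h1 : Mono ((sheafToPresheaf X.smallEtaleTopology AddCommGrpCat.{u + 1}).map φ) := by
      rw [NatTrans.mono_iff_mono_app]
      intro U
      rw [AddCommGrpCat.mono_iff_injective]
      exact (injective_iff_map_eq_zero (φ.hom.app U).hom).2 (h U.unop)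
    exact (sheafToPresheaf X.smallEtaleTopology _).mono_of_mono_map h1

variable (hA : BigSite.PropA f)
include hA

/-- `a s = 0` for sections over base changes implies the same for all sections. -/
theorem eq_zero_of {F : EtCoh.Ab X}
    (P : ∀ (U : X.Etale), F.obj.obj (op U) → Prop)
    (hP0 : ∀ U, P U 0) (hPres : ∀ {U V : X.Etale} (g : V ⟶ U) (s), P U s → P V (F.obj.map g.op s))
    (hPglue : ∀ {W W' T : X.Etale} (i : W ⟶ T) (i' : W' ⟶ T) [Mono i] [Mono i']
      (_ : Set.range i.left ∪ Set.range i'.left = Set.univ)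
      (_ : Disjoint (Set.range i.left) (Set.range i'.left)) (t : F.obj.obj (op T)),
      P W (F.obj.map i.op t) → P W' (F.obj.map i'.op t) → P T t)
    (h : ∀ (V : Y.Etale) (t : F.obj.obj (op ((EtCoh.bc f).obj V))), P _ t → t = 0)
    (U : X.Etale) (s : F.obj.obj (op U)) (hs : P U s) : s = 0 := by
  apply EtSite.sect_eq_zero
  intro u
  obtain ⟨V, W, i, hi, W', i', hi', hc, hd, k, w, hw⟩ := exists_ext hA U u
  refine ⟨W, k, w, hw, ?_⟩
  obtain ⟨t, ⟨ht, ht'⟩, -⟩ := existsUnique_glue_two F i i' hc hd (F.obj.map k.op s) 0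
  have h1 : P _ t := by
    refine hPglue i i' hc hd t ?_ ?_
    · rw [ht]; exact hPres k s hs
    · rw [ht']; exact hP0 _
  rw [← ht, h V t h1]
  exact map_zero (F.obj.map i.op).hom

theorem reflects_mono {F G : EtCoh.Ab X} (a : F ⟶ G) (h : Mono ((EtCoh.push f).map a)) :
    Mono a := by
  rw [mono_iff] at h ⊢
  refine eq_zero_of hA (fun U s => a.hom.app (op U) s = 0) (fun U => map_zero (a.hom.app (op U)).hom)
    ?_ ?_ ?_
  · intro U V g s hs
    rw [app_map, hs]
    exact map_zero (G.obj.map g.op).hom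
  · intro W W' T i i' _ _ hc hd t h1 h2
    obtain ⟨r, -, hr⟩ := existsUnique_glue_two G i i' hc hd 0 0
    rw [app_map] at h1 h2
    rw [hr _ ⟨h1, h2⟩]
    exact (hr _ ⟨map_zero (G.obj.map i.op).hom, map_zero (G.obj.map i'.op).hom⟩).symm
  · intro V t ht
    exact h V t ht

theorem eq_zero_of_push_map_eq_zero {F G : EtCoh.Ab X} (a : F ⟶ G)
    (h : (EtCoh.push f).map a = 0) : a = 0 := by
  apply Sheaf.hom_ext
  ext U s
  change a.hom.app U s = 0
  apply EtSite.sect_eq_zero
  intro u
  obtain ⟨V, W, i, hi, W', i', hi', hc, hd, k, w, hw⟩ := exists_ext hA U.unop u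
  refine ⟨W, k, w, hw, ?_⟩
  obtain ⟨t, ⟨ht, ht'⟩, -⟩ := existsUnique_glue_two F i i' hc hd (F.obj.map k.op s) 0
  have h1 : a.hom.app (op ((EtCoh.bc f).obj V)) t = 0 := by
    have h2 : ((EtCoh.push f).map a).hom.app (op V) t = (0 : (EtCoh.push f).obj F ⟶ (EtCoh.push f).obj G).hom.app (op V) t := by
      rw [h]
    exact h2
  have h3 : a.hom.app (op W) (F.obj.map k.op s) = 0 := by
    rw [← ht, app_map, h1]
    exact map_zero (G.obj.map i.op).hom
  rw [← h3, app_map]

theorem faithful : (EtCoh.push f).Faithful where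
  map_injective {F G a b} h := by
    rw [← sub_eq_zero]
    apply eq_zero_of_push_map_eq_zero hA
    rw [Functor.map_sub, sub_eq_zero]
    exact h

theorem reflects_epi {F G : EtCoh.Ab X} (a : F ⟶ G) (h : Epi ((EtCoh.push f).map a)) :
    Epi a := by
  rw [PushExact.epi_iff] at h ⊢
  intro U s u
  obtain ⟨V, W, i, hi, W', i', hi', hc, hd, k, w, hw⟩ := exists_ext hA U u
  obtain ⟨t, ⟨ht, ht'⟩, -⟩ := existsUnique_glue_two G i i' hc hd (G.obj.map k.op s) 0
  let x : ((EtCoh.bc f).obj V).left := i.left w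
  obtain ⟨V', g, v', hv', r, hr⟩ := h V t ((pullback.fst V.hom f : ((EtCoh.bc f).obj V).left ⟶ V.left) x)
  -- a point of `bc V'` over `x` and `v'`
  obtain ⟨z, hz1, -⟩ := Scheme.Pullback.exists_preimage_pullback
    (f := (pullback.fst V.hom f : ((EtCoh.bc f).obj V).left ⟶ V.left)) (g := g.left) x v' hv'.symm
  let z' : ((EtCoh.bc f).obj V').left := (EtCoh.isPullback_bc_map f g).isoPullback.inv z
  have hz' : ((EtCoh.bc f).map g).left z' = i.left w := by
    refine Eq.trans ?_ hz1
    exact congrArg (fun q : pullback (pullback.fst V.hom f : ((EtCoh.bc f).obj V).left ⟶ V.left) g.left ⟶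
      ((EtCoh.bc f).obj V).left => q z) (EtCoh.isPullback_bc_map f g).isoPullback_inv_fst
  obtain ⟨P, c, b, p, hcb, hc1, hb1⟩ := EtSite.exists_pullback i ((EtCoh.bc f).map g) w z' hz'.symm
  let r' : F.obj.obj (op ((EtCoh.bc f).obj V')) := r
  have hr' : a.hom.app (op ((EtCoh.bc f).obj V')) r' = G.obj.map ((EtCoh.bc f).map g).op t := hr
  refine ⟨P, c ≫ k, p, ?_, F.obj.map b.op r', ?_⟩
  · change k.left (c.left p) = u
    rw [hc1, hw]
  · rw [app_map, hr']
    have e1 : G.obj.map b.op (G.obj.map ((EtCoh.bc f).map g).op t) =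
        G.obj.map (b ≫ (EtCoh.bc f).map g).op t := by
      rw [op_comp, G.obj.map_comp]; rfl
    have e2 : G.obj.map (c ≫ i).op t = G.obj.map c.op (G.obj.map i.op t) := by
      rw [op_comp, G.obj.map_comp]; rfl
    rw [e1, ← hcb, e2, ht, op_comp, G.obj.map_comp]
    rfl

end K300.PropA
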