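import Groth.Agent.Sga4h.TensorConst
import Groth.Agent.EtCore.K300.PropA
import Groth.Agent.EtpbcA.FLCExact

/-!
# Maps of constant sheaves
-/

set_option autoImplicit false
universe u

open CategoryTheory CategoryTheory.Limits AlgebraicGeometry Opposite

namespace K300.ConstMap

open Groth.Agent Groth.Agent.Etbase Groth.Agent.EtpbcA.Germ Groth.Agent.EtpbcA
open Groth.Agent.Sga4h.TensorConst (cst cst_res exists_cst exists_split constP)

variable {X : Scheme.{u}}

/-- The map of constant sheaves induced by a homomorphism, on constant sections. -/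
theorem map_cst {A B : Type} [AddCommGroup A] [AddCommGroup B] (h : A →+ B) (V : X.Etale) (m : A) :
    ((constantSheaf X.smallEtaleTopology AddCommGrpCat.{u + 1}).map
      (AddCommGrpCat.ofHom (AddEquiv.ulift.{0, u + 1}.symm.toAddMonoidHom.comp
        (h.comp AddEquiv.ulift.{0, u + 1}.toAddMonoidHom)))).hom.app (op V) (cst (X := X) A V m) = cst B V (h m) := by
  let φ : AddCommGrpCat.of (ULift.{u + 1} A) ⟶ AddCommGrpCat.of (ULift.{u + 1} B) :=
    AddCommGrpCat.ofHom (AddEquiv.ulift.{0, u + 1}.symm.toAddMonoidHom.comp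
      (h.comp AddEquiv.ulift.{0, u + 1}.toAddMonoidHom))
  have h1 := toSheafify_naturality X.smallEtaleTopology
    ((Functor.const X.Etaleᵒᵖ).map φ)
  have h2 := congrArg (fun t => t.app (op V) (ULift.up m)) h1
  exact h2.symm

/-- Constant sections with the same germ are equal. -/
theorem cst_germ_injective (A : Type) [AddCommGroup A] {Ω : Type u} [Field Ω] [IsSepClosed Ω]
    (ξ : Spec (CommRingCat.of Ω) ⟶ X) {V : X.Etale} (t : Fib ξ V) (m m' : A)
    (h : germ ξ (EtCoh.const X A) t (cst A V m) = germ ξ (EtCoh.const X A) t (cst A V m')) :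
    m = m' := by
  rw [germ_eq_iff] at h
  obtain ⟨W, g, w, -, hw⟩ := h
  rw [cst_res, cst_res] at hw
  obtain ⟨ρ, hρ⟩ := exists_split (X := X) A W (pt ξ w)
  rw [← hρ m, ← hρ m', hw]

theorem isIso_of_stalk [IrreducibleSpace ↥X]
    {Ω : Type u} [Field Ω] [IsSepClosed Ω] (ξ : Spec (CommRingCat.of Ω) ⟶ X)
    (hξ : ξ.base default = genericPoint ↥X)
    (A : Type) [AddCommGroup A] (A' : AddSubgroup A) (G : EtCoh.Ab X)
    (a : EtCoh.const X ↥A' ⟶ G) (b : G ⟶ EtCoh.const X A) [Mono a] [Mono b]
    (hab : a ≫ b = (constantSheaf X.smallEtaleTopology AddCommGrpCat.{u + 1}).map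
      (AddCommGrpCat.ofHom (AddEquiv.ulift.symm.toAddMonoidHom.comp (A'.subtype.comp AddEquiv.ulift.toAddMonoidHom))))
    (hst : IsIso ((EtCoh.stalk ξ).map a)) : IsIso a := by
  have hab' : ∀ (V : X.Etale) (m : A'), b.hom.app (op V) (a.hom.app (op V) (cst A' V m)) = cst A V (m : A) := by
    intro V m
    have h1 : (a ≫ b).hom.app (op V) (cst A' V m) = cst A V (m : A) := by
      rw [hab]
      exact map_cst A'.subtype V m
    exact h1
  have hb : ∀ (V : X.Etale) (s t : G.obj.obj (op V)), b.hom.app (op V) s = b.hom.app (op V) t → s = t := by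
    intro V s t h
    rw [← sub_eq_zero]
    refine (PropA.mono_iff b).1 inferInstance V _ ?_
    refine (map_sub (b.hom.app (op V)).hom s t).trans ?_
    exact sub_eq_zero.2 h
  have hepi : Epi a := by
    rw [PushExact.epi_iff]
    intro U s x
    obtain ⟨W, g, ⟨w, hw⟩, m, hm⟩ := exists_cst (X := X) A U (b.hom.app (op U) s) x
    -- the generic point is in the image of `W`
    obtain ⟨w', hw'⟩ : ∃ w' : W.left, W.hom w' = ξ default := by
      let p : W.left ⟶ X := W.hom
      have hp : AlgebraicGeometry.Etale p := W.prop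
      have h1 : genericPoint ↥X ∈ Set.range p := by
        have h2 := (genericPoint_spec (α := X)).mem_open_set_iff (p.isOpenMap.isOpen_range)
        rw [h2]
        exact ⟨p w, trivial, w, rfl⟩
      obtain ⟨w', hw'⟩ := h1
      exact ⟨w', hw'.trans hξ.symm⟩
    obtain ⟨t, -⟩ := FLCExact.exists_fib ξ W w' hw'
    -- the germ of `s`
    have hbij : Function.Bijective ((EtCoh.stalk ξ).map a) :=
      (ConcreteCategory.isIso_iff_bijective ((EtCoh.stalk ξ).map a)).1 hst
    obtain ⟨α, hα⟩ := hbij.2 (germ ξ G t (G.obj.map g.op s))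
    obtain ⟨V, k, t₁, r, ht₁, hr⟩ := germ_surj_over ξ (EtCoh.const X A') t α
    obtain ⟨V', k', ⟨v', hv'⟩, m', hm'⟩ := exists_cst (X := X) A' V r (pt ξ t₁)
    obtain ⟨t₂, ht₂, -⟩ := exists_lift ξ k' t₁ v' hv'
    have hmm : m = (m' : A) := by
      refine cst_germ_injective A ξ t₂ _ _ ?_
      have e1 : α = germ ξ (EtCoh.const X A') t₂ (cst A' V' m') := by
        rw [← hm', germ_res, ht₂, hr]
      have e2 : germ ξ G t₂ (G.obj.map (k' ≫ k ≫ g).op s) = germ ξ G t₂ (a.hom.app (op V') (cst A' V' m')) := by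
        rw [← germ_map, ← e1, hα, germ_res, germ_res, fmap_comp, fmap_comp, ht₂, ht₁]
      have e3 := congrArg (fun z => (EtCoh.stalk ξ).map b z) e2
      simp only [germ_map] at e3
      rw [hab'] at e3
      rw [← e3, PropA.app_map]
      have e4 : (EtCoh.const X A).obj.map (k' ≫ k ≫ g).op (b.hom.app (op U) s) = cst A V' m := by
        have e5 : (EtCoh.const X A).obj.map (k' ≫ k ≫ g).op (b.hom.app (op U) s) =
            (EtCoh.const X A).obj.map (k' ≫ k).op ((EtCoh.const X A).obj.map g.op (b.hom.app (op U) s)) := by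
          rw [← Category.assoc, op_comp, (EtCoh.const X A).obj.map_comp]
          rfl
        rw [e5, hm, cst_res]
      rw [e4]
    refine ⟨W, g, w, hw, cst A' W m', ?_⟩
    apply hb
    rw [hab', PropA.app_map, hm, hmm]
  exact isIso_of_mono_of_epi a

end K300.ConstMap
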