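import Groth.Agent.DeltaF.K988.Univ
import Mathlib.Algebra.Homology.DerivedCategory.Ext.ExactSequences
import Mathlib.Algebra.Homology.DerivedCategory.Ext.EnoughInjectives
import Mathlib.Algebra.Homology.ShortComplex.ExactFunctor

/-!
# Constructions with cohomological delta-functors

* `postComp T G` : composition of a delta-functor with an exact functor;
* `preComp E T` : precomposition of a delta-functor with an exact functor;
* `extDelta P` : the delta-functor `Ext^n(P, -)`;
* `nonempty_iso_of_effaceable` : effaceable delta-functors with isomorphic degree `0` parts are isomorphic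
  in all degrees.
-/

set_option autoImplicit false

universe w v u v' u' v'' u''

open CategoryTheory CategoryTheory.Limits

namespace K300.DeltaTools

open DeltaF

variable {A : Type u} [Category.{v} A] [Abelian A] {B : Type u'} [Category.{v'} B] [Abelian B]
  {C : Type u''} [Category.{v''} C] [Abelian C]

/-- Postcomposition of a delta-functor with an exact functor. -/
noncomputable def postComp (T : CohDeltaFunctor A B ℕ) (G : B ⥤ C) [G.Additive] [G.PreservesHomology] :
    CohDeltaFunctor A C ℕ where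
  F n := T.F n ⋙ G
  additive n := inferInstance
  δ S hS n₀ n₁ h := G.map (T.δ S hS n₀ n₁ h)
  δ_natural hS hS' φ n₀ n₁ h := by
    dsimp
    rw [← G.map_comp, ← G.map_comp, T.δ_natural hS hS' φ n₀ n₁ h]
  exact₂ S hS n := (T.exact₂ S hS n).map G
  comp_δ S hS n₀ n₁ h := by
    dsimp
    rw [← G.map_comp, T.comp_δ, G.map_zero]
  exact₃ S hS n₀ n₁ h := (T.exact₃ S hS n₀ n₁ h).map G
  δ_comp S hS n₀ n₁ h := by
    dsimp
    rw [← G.map_comp, T.δ_comp, G.map_zero]
  exact₁ S hS n₀ n₁ h := (T.exact₁ S hS n₀ n₁ h).map G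

/-- Precomposition of a delta-functor with an exact functor. -/
noncomputable def preComp (E : A ⥤ B) [E.Additive] [PreservesFiniteLimits E] [PreservesFiniteColimits E]
    (T : CohDeltaFunctor B C ℕ) :
    CohDeltaFunctor A C ℕ where
  F n := E ⋙ T.F n
  additive n := inferInstance
  δ S hS n₀ n₁ h := T.δ (S.map E) (hS.map_of_exact E) n₀ n₁ h
  δ_natural {S S'} hS hS' φ n₀ n₁ h :=
    T.δ_natural (hS.map_of_exact E) (hS'.map_of_exact E) (E.mapShortComplex.map φ) n₀ n₁ h
  exact₂ S hS n := T.exact₂ (S.map E) (hS.map_of_exact E) n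
  comp_δ S hS n₀ n₁ h := T.comp_δ (S.map E) (hS.map_of_exact E) n₀ n₁ h
  exact₃ S hS n₀ n₁ h := T.exact₃ (S.map E) (hS.map_of_exact E) n₀ n₁ h
  δ_comp S hS n₀ n₁ h := T.δ_comp (S.map E) (hS.map_of_exact E) n₀ n₁ h
  exact₁ S hS n₀ n₁ h := T.exact₁ (S.map E) (hS.map_of_exact E) n₀ n₁ h

open Abelian in
/-- The delta-functor `Ext^n(P, -)`. -/
noncomputable def extDelta [HasExt.{w} A] (P : A) : CohDeltaFunctor A AddCommGrpCat.{w} ℕ where
  F n := extFunctorObj P n
  additive n := inferInstance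
  δ S hS n₀ n₁ h := AddCommGrpCat.ofHom (hS.extClass.postcomp P h)
  δ_natural {S S'} hS hS' φ n₀ n₁ h := by
    ext x
    change (Ext.comp (Ext.comp x (Ext.mk₀ φ.τ₃) (add_zero n₀)) hS'.extClass h : Ext P S'.X₁ n₁) =
      Ext.comp (Ext.comp x hS.extClass h) (Ext.mk₀ φ.τ₁) (add_zero n₁)
    have h1 := ShortComplex.ShortExact.extClass_naturality hS hS' φ
    rw [Ext.comp_assoc_of_second_deg_zero, ← h1, Ext.comp_assoc_of_third_deg_zero]
  exact₂ S hS n := Ext.covariant_sequence_exact₂' P hS n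
  comp_δ S hS n₀ n₁ h := by
    ext x
    change Ext.comp (Ext.comp x (Ext.mk₀ S.g) (add_zero n₀)) hS.extClass h = (0 : Ext P S.X₁ n₁)
    rw [Ext.comp_assoc_of_second_deg_zero, ShortComplex.ShortExact.comp_extClass, Ext.comp_zero]
  exact₃ S hS n₀ n₁ h := Ext.covariant_sequence_exact₃' P hS n₀ n₁ h
  δ_comp S hS n₀ n₁ h := by
    ext x
    change Ext.comp (Ext.comp x hS.extClass h) (Ext.mk₀ S.f) (add_zero n₁) = (0 : Ext P S.X₂ n₁)
    rw [Ext.comp_assoc_of_third_deg_zero, ShortComplex.ShortExact.extClass_comp, Ext.comp_zero]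
  exact₁ S hS n₀ n₁ h := Ext.covariant_sequence_exact₁' P hS n₀ n₁ h

/-- Effaceable delta-functors with isomorphic degree `0` parts are isomorphic in all degrees. -/
theorem nonempty_iso_of_effaceable (T T' : CohDeltaFunctor A B ℕ) (hT : T.IsEffaceable)
    (hT' : T'.IsEffaceable) (e : T.F 0 ≅ T'.F 0) (n : ℕ) : Nonempty (T.F n ≅ T'.F n) := by
  obtain ⟨φ, -, -⟩ := K988.DeltaFUniv.existsUnique_iso T T' (K988.DeltaFUniv.isUniversal hT)
    (K988.DeltaFUniv.isUniversal hT') e
  refine ⟨⟨φ.hom.app n, φ.inv.app n, ?_, ?_⟩⟩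
  · have h := congrArg (fun t => CohDeltaFunctor.Hom.app t n) φ.hom_inv_id
    exact h
  · have h := congrArg (fun t => CohDeltaFunctor.Hom.app t n) φ.inv_hom_id
    exact h

end K300.DeltaTools
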