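import Groth.Agent.EtCore.K300.DeltaTools
import Groth.Agent.EtpbcB.GammaRpush
import Groth.Agent.RDer.K887.LES

/-!
# Delta-functors on abelian étale sheaves

* `rdDelta F` : the delta-functor of right derived functors of an additive functor, `rdDelta_eff`;
* `hDelta X` : the delta-functor `n ↦ H^n(X, -)`;
* `hZeroIso X` : `H^0(X, -) ≅ Γ(X, -)`.
-/

set_option autoImplicit false
universe u v v' w w'
open CategoryTheory CategoryTheory.Limits AlgebraicGeometry Opposite

namespace K300.EtDelta

open Groth.Agent.EtpbcB.SepClosedPoint Groth.Agent.EtpbcB.GammaRpush K300.DeltaTools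

section

variable {C : Type v} [Category.{w} C] [Abelian C] [EnoughInjectives C] {D : Type v'} [Category.{w'} D]
  [Abelian D] (F : C ⥤ D) [F.Additive]

/-- The delta-functor of the derived functors of an additive functor. -/
noncomputable def rdDelta : DeltaF.CohDeltaFunctor C D ℕ :=
  (K887.LES.derivedLES F).toCohDeltaFunctor

theorem rdDelta_F (n : ℕ) : (rdDelta F).F n = F.rightDerived n := rfl

theorem rdDelta_eff : (rdDelta F).IsEffaceable := by
  rw [K988.DeltaFUniv.isEffaceable_iff]
  intro n I hI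
  exact F.isZero_rightDerived_obj_injective_succ n I

theorem postComp_eff {E : Type*} [Category* E] [Abelian E] (G : D ⥤ E) [G.Additive] [G.PreservesHomology]
    (T : DeltaF.CohDeltaFunctor C D ℕ) (hT : T.IsEffaceable) : (postComp T G).IsEffaceable := by
  rw [K988.DeltaFUniv.isEffaceable_iff] at hT ⊢
  intro n I hI
  exact G.map_isZero (hT n I hI)

end

/-- The delta-functor `H^n(X, -)`. -/
noncomputable def hDelta (X : Scheme.{u}) : DeltaF.CohDeltaFunctor (EtCoh.Ab X) AddCommGrpCat.{u + 1} ℕ :=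
  extDelta (ZX X)

theorem hDelta_F (X : Scheme.{u}) (n : ℕ) : (hDelta X).F n = EtCoh.HF X n := rfl

/-- `H^0(X, F) ≅ Γ(X, F)` -/
noncomputable def hZeroObj (X : Scheme.{u}) (F : EtCoh.Ab X) : (EtCoh.HF X 0).obj F ≅ (Γtop X).obj F :=
  (Sheaf.H.equiv₀ F (topIsTerminal X)).toAddCommGrpIso

theorem hZeroObj_naturality (X : Scheme.{u}) {F G : EtCoh.Ab X} (g : F ⟶ G) :
    (EtCoh.HF X 0).map g ≫ (hZeroObj X G).hom = (hZeroObj X F).hom ≫ (Γtop X).map g := by
  refine AddCommGrpCat.hom_ext (AddMonoidHom.ext fun x => ?_)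
  exact (Sheaf.H.equiv₀_naturality (topIsTerminal X) g x).symm

/-- `H^0(X, -) ≅ Γ(X, -)` -/
noncomputable def hZeroIso (X : Scheme.{u}) : EtCoh.HF X 0 ≅ Γtop X :=
  NatIso.ofComponents (hZeroObj X) (hZeroObj_naturality X)

end K300.EtDelta
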