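import Groth.Agent.EtCore.K300.DeltaTools
import Mathlib.RepresentationTheory.Homological.GroupCohomology.LongExactSequence
import Mathlib.RepresentationTheory.Homological.GroupCohomology.Shapiro
import Mathlib.Algebra.Category.ModuleCat.EnoughInjectives

/-!
# Group cohomology as a universal delta-functor

* `gcDelta k G` : the delta-functor `n ↦ H^n(G, -)`;
* `isZero_of_induced` : vanishing for induced representations, given by a linear map `q : M → N` such that
  `m ↦ (g ↦ q (g m))` is a bijection `M → (G → N)`;
* `gcDelta_effaceable`.
-/

set_option autoImplicit false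
set_option linter.unusedVariables false

universe u

open CategoryTheory CategoryTheory.Limits

namespace K300.GrpCohDelta

open DeltaF

variable (k G : Type u) [CommRing k] [Group G]

/-- The delta-functor `n ↦ H^n(G, -)`. -/
noncomputable def gcDelta : CohDeltaFunctor (Rep.{u} k G) (ModuleCat.{u} k) ℕ where
  F n := groupCohomology.functor k G n
  additive n := inferInstanceAs (groupCohomology.cochainsFunctor k G ⋙
    HomologicalComplex.homologyFunctor (ModuleCat k) (ComplexShape.up ℕ) n).Additive
  δ S hS n₀ n₁ h := groupCohomology.δ hS n₀ n₁ h
  δ_natural hS hS' φ n₀ n₁ h := (groupCohomology.δ_naturality hS hS' φ n₀ n₁ h).symm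
  exact₂ S hS n := groupCohomology.mapShortComplex₂_exact hS n
  comp_δ S hS n₀ n₁ h := (groupCohomology.mapShortComplex₃ hS h).zero
  exact₃ S hS n₀ n₁ h := groupCohomology.mapShortComplex₃_exact hS h
  δ_comp S hS n₀ n₁ h := (groupCohomology.mapShortComplex₁ hS h).zero
  exact₁ S hS n₀ n₁ h := groupCohomology.mapShortComplex₁_exact hS h

variable {k G}

section

variable {N : Type u} [AddCommGroup N] [Module k N]

/-- The trivial representation of the trivial group. -/
noncomputable abbrev trivRep (N : Type u) [AddCommGroup N] [Module k N] : Rep.{u} k (⊥ : Subgroup G) :=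
  Rep.of (Representation.trivial k (⊥ : Subgroup G) N)

/-- The map to the coinduced representation attached to a linear map. -/
noncomputable def toCoind (M : Rep.{u} k G) (q : M.V →ₗ[k] N) :
    M ⟶ Rep.coind (⊥ : Subgroup G).subtype (trivRep (k := k) N) :=
  Rep.ofHom (ρ := M.ρ)
    { toFun := fun m => ⟨fun g => q (M.ρ g m), fun g h => by
        obtain ⟨g, hg⟩ := g
        obtain rfl : g = 1 := by simpa using hg
        simp⟩
      map_add' := fun x y => by
        ext g
        simp
      map_smul' := fun c x => by
        ext g
        simp
      isIntertwining' := fun h => by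
        ext m g
        simp }

theorem toCoind_apply (M : Rep.{u} k G) (q : M.V →ₗ[k] N) (m : M.V) (g : G) :
    ((toCoind M q).hom m).1 g = q (M.ρ g m) := rfl

/-- A coinduced representation has no higher cohomology. -/
theorem isZero_coind (n : ℕ) :
    IsZero (groupCohomology (Rep.coind (⊥ : Subgroup G).subtype (trivRep (k := k) N)) (n + 1)) := by
  refine IsZero.of_iso ?_ (groupCohomology.coindIso (trivRep (k := k) (G := G) N) (n + 1))
  exact isZero_groupCohomology_succ_of_subsingleton _ n

/-- Vanishing of the higher cohomology of induced representations. -/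
theorem isZero_of_induced (M : Rep.{u} k G) (q : M.V →ₗ[k] N)
    (hq : Function.Bijective fun (m : M.V) (g : G) => q (M.ρ g m)) (n : ℕ) :
    IsZero (groupCohomology M (n + 1)) := by
  have h1 : Function.Bijective (toCoind M q).hom := by
    constructor
    · intro a b hab
      exact hq.1 (congrArg Subtype.val hab)
    · intro f
      obtain ⟨m, hm⟩ := hq.2 f.1
      exact ⟨m, Subtype.ext hm⟩
  have h2 : IsIso ((forget (Rep.{u} k G)).map (toCoind M q)) := (isIso_iff_bijective _).2 h1
  have h3 : IsIso (toCoind M q) := isIso_of_reflects_iso (toCoind M q) (forget (Rep.{u} k G))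
  exact IsZero.of_iso (isZero_coind n) ((groupCohomology.functor k G (n + 1)).mapIso (asIso (toCoind M q)))

end

/-- Group cohomology is effaceable. -/
theorem gcDelta_effaceable : (gcDelta k G).IsEffaceable := by
  intro n M
  refine ⟨_, toCoind M (LinearMap.id : M.V →ₗ[k] M.V), ?_, ?_⟩
  · rw [Rep.mono_iff_injective]
    intro a b hab
    have := congrArg (fun t => t.1 1) hab
    change M.ρ 1 a = M.ρ 1 b at this
    simpa using this
  · exact (isZero_coind n).eq_of_tgt _ _

end K300.GrpCohDelta
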