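import Groth.Agent.EtCore.K300.HSRep
import Groth.Agent.EtCore.K300.GrpCohDelta
import Groth.Agent.EtpbcA.OverSite
import Groth.Agent.EtCore.K301.SigmaCofan
import Groth.Agent.Etbase.EtSite

/-!
# Sections of injective sheaves over a Galois covering are acyclic for group cohomology
-/

set_option autoImplicit false
set_option linter.unusedVariables false
universe u
open CategoryTheory CategoryTheory.Limits AlgebraicGeometry Opposite

namespace K300.HS

open EtCoh EtShriek Groth.Agent.EtpbcA.OverSite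

variable {X : Scheme.{u}} (Y : X.Etale)

/-- The structure morphism, with normalised type. -/
abbrev pY : Y.left ⟶ X := Y.hom

instance : Etale (pY Y) := Y.prop

/-- `Y` as an object of its own étale site, mapped back to `X`. -/
noncomputable abbrev Y' : X.Etale := (compEtale (pY Y)).obj (EtCoh.top Y.left)

/-- The identification with `Y`. -/
noncomputable def kap : Y' Y ⟶ Y :=
  MorphismProperty.Over.homMk (𝟙 Y.left) rfl

/-- The inverse identification. -/
noncomputable def kapInv : Y ⟶ Y' Y :=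
  MorphismProperty.Over.homMk (𝟙 Y.left) ((Category.id_comp _).trans (Category.id_comp _))

theorem kap_kapInv : kap Y ≫ kapInv Y = 𝟙 _ := MorphismProperty.Over.Hom.ext (Category.id_comp _)

theorem kapInv_kap : kapInv Y ≫ kap Y = 𝟙 _ := MorphismProperty.Over.Hom.ext (Category.id_comp _)

instance : IsIso (kap Y) := ⟨kapInv Y, kap_kapInv Y, kapInv_kap Y⟩

/-- The fibre product `Y ×_X Y`, as an étale `X`-scheme. -/
noncomputable abbrev PY : X.Etale := (compEtale (pY Y)).obj ((EtCoh.bc (pY Y)).obj Y)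

/-- first projection -/
noncomputable def p1 : PY Y ⟶ Y :=
  MorphismProperty.Over.homMk (pullback.fst (pY Y) (pY Y)) pullback.condition

/-- second projection -/
noncomputable def p2 : PY Y ⟶ Y :=
  MorphismProperty.Over.homMk (pullback.snd (pY Y) (pY Y)) rfl

/-- comparison with the product -/
noncomputable def thY : PY Y ⟶ Y ⨯ Y := prod.lift (p1 Y) (p2 Y)

theorem fst_snd_w : (prod.fst : Y ⨯ Y ⟶ Y).left ≫ pY Y = (prod.snd : Y ⨯ Y ⟶ Y).left ≫ pY Y :=
  (MorphismProperty.Over.w (prod.fst : Y ⨯ Y ⟶ Y)).trans (MorphismProperty.Over.w (prod.snd : Y ⨯ Y ⟶ Y)).symm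

/-- inverse comparison with the product -/
noncomputable def thYInv : Y ⨯ Y ⟶ PY Y :=
  MorphismProperty.Over.homMk (pullback.lift (prod.fst : Y ⨯ Y ⟶ Y).left (prod.snd : Y ⨯ Y ⟶ Y).left (fst_snd_w Y))
    (by
      change pullback.lift _ _ _ ≫ pullback.snd _ _ ≫ pY Y = _
      rw [pullback.lift_snd_assoc]
      exact MorphismProperty.Over.w (prod.snd : Y ⨯ Y ⟶ Y))

theorem thYInv_p1 : thYInv Y ≫ p1 Y = prod.fst := MorphismProperty.Over.Hom.ext (pullback.lift_fst _ _ _)

theorem thYInv_p2 : thYInv Y ≫ p2 Y = prod.snd := MorphismProperty.Over.Hom.ext (pullback.lift_snd _ _ _)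

theorem PY_hom_ext {Z : X.Etale} (a b : Z ⟶ PY Y) (h1 : a ≫ p1 Y = b ≫ p1 Y) (h2 : a ≫ p2 Y = b ≫ p2 Y) : a = b := by
  apply MorphismProperty.Over.Hom.ext
  apply pullback.hom_ext
  · exact congrArg (fun k => k.left) h1
  · exact congrArg (fun k => k.left) h2

instance : IsIso (thY Y) := by
  refine ⟨thYInv Y, ?_, ?_⟩
  · apply PY_hom_ext
    · rw [Category.assoc, thYInv_p1, thY, prod.lift_fst, Category.id_comp]
    · rw [Category.assoc, thYInv_p2, thY, prod.lift_snd, Category.id_comp]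
  · apply prod.hom_ext
    · rw [Category.assoc, thY, prod.lift_fst, thYInv_p1, Category.id_comp]
    · rw [Category.assoc, thY, prod.lift_snd, thYInv_p2, Category.id_comp]

/-- The diagonal. -/
noncomputable def dg : EtCoh.top Y.left ⟶ (EtCoh.bc (pY Y)).obj Y :=
  MorphismProperty.Over.homMk (pullback.lift (𝟙 Y.left) (𝟙 Y.left) rfl) (pullback.lift_snd _ _ _)

theorem dg_p1 (a : Y ⟶ Y) :
    (compEtale (pY Y)).map (dg Y ≫ (EtCoh.bc (pY Y)).map a) ≫ p1 Y = kap Y ≫ a := by
  apply MorphismProperty.Over.Hom.ext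
  change ((dg Y).left ≫ ((EtCoh.bc (pY Y)).map a).left) ≫ pullback.fst (pY Y) (pY Y) = 𝟙 Y.left ≫ a.left
  have h1 : ((EtCoh.bc (pY Y)).map a).left ≫ pullback.fst (pY Y) (pY Y) = pullback.fst (pY Y) (pY Y) ≫ a.left :=
    (EtCoh.isPullback_bc_map (pY Y) a).w
  exact (Category.assoc _ _ _).trans ((congrArg (fun t => (dg Y).left ≫ t) h1).trans
    ((Category.assoc _ _ _).symm.trans (congrArg (fun t => t ≫ a.left) (pullback.lift_fst _ _ _))))

theorem dg_p2 (a : Y ⟶ Y) :
    (compEtale (pY Y)).map (dg Y ≫ (EtCoh.bc (pY Y)).map a) ≫ p2 Y = kap Y := by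
  apply MorphismProperty.Over.Hom.ext
  change (dg Y ≫ (EtCoh.bc (pY Y)).map a).left ≫ pullback.snd (pY Y) (pY Y) = 𝟙 Y.left
  exact MorphismProperty.Over.w (dg Y ≫ (EtCoh.bc (pY Y)).map a)

variable {G : Type (u + 1)} [Group G] (σ : G →* Aut Y)

theorem dg_th (g : G) :
    (compEtale (pY Y)).map (dg Y ≫ (EtCoh.bc (pY Y)).map (σ g).inv) ≫ thY Y =
      (kap Y ≫ (σ g).inv) ≫ prod.lift (𝟙 Y) (σ g).hom := by
  apply prod.hom_ext
  · rw [Category.assoc, thY, prod.lift_fst, dg_p1, Category.assoc, prod.lift_fst, Category.comp_id]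
  · rw [Category.assoc, thY, prod.lift_snd, dg_p2, Category.assoc, prod.lift_snd, Category.assoc,
      Iso.inv_hom_id, Category.comp_id]

/-- The sheaf `U ↦ F(U × Y)`. -/
noncomputable abbrev RF (F : EtCoh.Ab X) : EtCoh.Ab X :=
  (EtCoh.push (pY Y)).obj ((restrAlong (pY Y)).obj F)

/-- The canonical map `F ⟶ RF F`. -/
noncomputable abbrev ηR (F : EtCoh.Ab X) : F ⟶ RF Y F := (restrPushAdj (pY Y)).unit.app F

theorem ηR_app (F : EtCoh.Ab X) (V : X.Etale) (s : EtCoh.sect F V) :
    (ηR Y F).hom.app (op V) s = F.obj.map ((compEtaleAdj (pY Y)).counit.app V).op s := rfl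

theorem injective_ηR (hY : Function.Surjective Y.hom.base) (F : EtCoh.Ab X) (V : X.Etale) (s : EtCoh.sect F V)
    (hs : (ηR Y F).hom.app (op V) s = 0) : s = 0 := by
  refine Groth.Agent.Etbase.EtSite.sect_eq_zero F V s fun x => ?_
  obtain ⟨y, hy⟩ := hY (V.hom x)
  obtain ⟨z, hz1, -⟩ := Scheme.Pullback.exists_preimage_pullback (f := V.hom) (g := pY Y) x y hy.symm
  exact ⟨(compEtale (pY Y)).obj ((EtCoh.bc (pY Y)).obj V), (compEtaleAdj (pY Y)).counit.app V, z, hz1, hs⟩

theorem mono_ηR (hY : Function.Surjective Y.hom.base) (F : EtCoh.Ab X) : Mono (ηR Y F) := by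
  refine ⟨fun {Z} a b hab => ?_⟩
  ext V s
  have h1 : (a ≫ ηR Y F).hom.app V s = (b ≫ ηR Y F).hom.app V s := by rw [hab]
  have h2 : (ηR Y F).hom.app (op V.unop) (a.hom.app V s - b.hom.app V s) = 0 := by
    rw [map_sub, sub_eq_zero]
    exact h1
  exact sub_eq_zero.1 (injective_ηR Y hY F V.unop _ h2)

variable {k : Type (u + 1)} [CommRing k] (e : k ≃+* ℤ)
variable (hgal : Nonempty (IsColimit (Cofan.mk (Y ⨯ Y) (fun g : G => prod.lift (𝟙 Y) (σ g).hom))))

include hgal in
/-- Sections over `Y ×_X Y` are functions on `G`. -/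
theorem bijective_sect [Finite G] (F : EtCoh.Ab X) :
    Function.Bijective fun (s : EtCoh.sect (RF Y F) Y) (g : G) =>
      ((restrAlong (pY Y)).obj F).obj.map (dg Y).op (act Y σ (RF Y F) g s) := by
  obtain ⟨hc⟩ := hgal
  have hF : Presieve.IsSheaf X.smallEtaleTopology (F.obj ⋙ forget AddCommGrpCat.{u + 1}) :=
    (isSheaf_iff_isSheaf_of_type _ _).1
      ((Presheaf.isSheaf_iff_isSheaf_forget _ _ (forget AddCommGrpCat.{u + 1})).1 F.property)
  have h1 := K301.SigmaCofan.sect_bijective hF hc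
  have h2 : Function.Bijective (fun (s : (F.obj ⋙ forget AddCommGrpCat.{u + 1}).obj (op (PY Y))) =>
      (F.obj ⋙ forget AddCommGrpCat.{u + 1}).map (inv (thY Y)).op s) :=
    (isIso_iff_bijective _).1 inferInstance
  have h3 : ∀ g : G, Function.Bijective (fun (s : (F.obj ⋙ forget AddCommGrpCat.{u + 1}).obj (op Y)) =>
      (F.obj ⋙ forget AddCommGrpCat.{u + 1}).map (kap Y ≫ (σ g).inv).op s) := fun g =>
    (isIso_iff_bijective _).1 inferInstance
  have h4 : Function.Bijective (fun (t : (g : G) → (F.obj ⋙ forget AddCommGrpCat.{u + 1}).obj (op Y)) (g : G) =>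
      (F.obj ⋙ forget AddCommGrpCat.{u + 1}).map (kap Y ≫ (σ g).inv).op (t g)) := by
    constructor
    · intro a b hab
      funext g
      exact (h3 g).1 (congrFun hab g)
    · intro t
      choose a ha using fun g => (h3 g).2 (t g)
      exact ⟨a, funext ha⟩
  have h5 := h4.comp (h1.comp h2)
  refine (congrArg Function.Bijective ?_).mpr h5
  refine funext fun s => funext fun g => ?_
  have h6 : (compEtale (pY Y)).map (dg Y ≫ (EtCoh.bc (pY Y)).map (σ g).inv) =
      ((kap Y ≫ (σ g).inv) ≫ prod.lift (𝟙 Y) (σ g).hom) ≫ inv (thY Y) := by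
    rw [← dg_th, Category.assoc, IsIso.hom_inv_id, Category.comp_id]
  have h7 : (F.obj ⋙ forget AddCommGrpCat.{u + 1}).map
      ((compEtale (pY Y)).map (dg Y ≫ (EtCoh.bc (pY Y)).map (σ g).inv)).op s =
      (F.obj ⋙ forget AddCommGrpCat.{u + 1}).map (kap Y ≫ (σ g).inv).op
        ((F.obj ⋙ forget AddCommGrpCat.{u + 1}).map (prod.lift (𝟙 Y) (σ g).hom).op
          ((F.obj ⋙ forget AddCommGrpCat.{u + 1}).map (inv (thY Y)).op s)) := by
    rw [h6, op_comp, op_comp, Functor.map_comp_apply, Functor.map_comp_apply]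
  refine Eq.trans ?_ h7
  have h8 : F.obj.map ((compEtale (pY Y)).map (dg Y ≫ (EtCoh.bc (pY Y)).map (σ g).inv)).op =
      F.obj.map ((compEtale (pY Y)).map ((EtCoh.bc (pY Y)).map (σ g).inv)).op ≫
        F.obj.map ((compEtale (pY Y)).map (dg Y)).op := by
    rw [Functor.map_comp, op_comp, F.obj.map_comp]
  exact (congrArg (fun t => t.hom s) h8).symm

include hgal in
theorem isZero_RF [Finite G] (F : EtCoh.Ab X) (n : ℕ) :
    IsZero (groupCohomology ((T e Y σ).obj (RF Y F)) (n + 1)) := by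
  let N : Type (u + 1) := EtCoh.sect ((restrAlong (pY Y)).obj F) (EtCoh.top Y.left)
  let f : EtCoh.sect (RF Y F) Y →+ N := (((restrAlong (pY Y)).obj F).obj.map (dg Y).op).hom
  let _ : Module k N := Module.compHom _ (e : k →+* ℤ)
  let _ := secMod e Y (RF Y F)
  exact GrpCohDelta.isZero_of_induced ((T e Y σ).obj (RF Y F)) (toLin e f) (bijective_sect Y σ hgal F) n

include hgal in
/-- Sections of injective sheaves are acyclic. -/
theorem isZero_injective [Finite G] (hY : Function.Surjective Y.hom.base) (F : EtCoh.Ab X) [Injective F] (n : ℕ) :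
    IsZero (groupCohomology ((T e Y σ).obj F) (n + 1)) := by
  have := mono_ηR Y hY F
  let r : RF Y F ⟶ F := Injective.factorThru (𝟙 F) (ηR Y F)
  have hr : ηR Y F ≫ r = 𝟙 F := Injective.comp_factorThru _ _
  have h1 : (groupCohomology.functor k G (n + 1)).map ((T e Y σ).map (ηR Y F)) ≫
      (groupCohomology.functor k G (n + 1)).map ((T e Y σ).map r) = 𝟙 _ := by
    rw [← Functor.map_comp, ← Functor.map_comp, hr, CategoryTheory.Functor.map_id, CategoryTheory.Functor.map_id]
  rw [IsZero.iff_id_eq_zero]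
  refine h1.symm.trans ?_
  have h2 : (groupCohomology.functor k G (n + 1)).map ((T e Y σ).map (ηR Y F)) = 0 :=
    (isZero_RF Y σ e hgal F n).eq_of_tgt _ _
  rw [h2]
  exact zero_comp

end K300.HS
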