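import Groth.Agent.EtCore.K300.HSAcyc
import Groth.Agent.EtCore.K300.EtDelta
import Groth.Agent.S16268

/-!
# Invariants of the sections over a Galois covering; derived functors of `H^0(G, -)`
-/

set_option autoImplicit false
set_option linter.unusedVariables false
universe u
open CategoryTheory CategoryTheory.Limits AlgebraicGeometry Opposite

namespace K300.HS

open K300.DeltaTools K300.EtDelta K300.GrpCohDelta Groth.Agent.EtpbcB.SepClosedPoint
open Groth.Agent.EtpbcB.GammaRpush

section Abs

variable (k G : Type (u + 1)) [CommRing k] [Group G]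

/-- `H^0(G, -)` with values in abelian groups. -/
noncomputable abbrev S0 : Rep.{u + 1} k G ⥤ AddCommGrpCat.{u + 1} :=
  groupCohomology.functor k G 0 ⋙ forget₂ (ModuleCat.{u + 1} k) AddCommGrpCat.{u + 1}

/-- `H^0(G, -)` is the functor of invariants. -/
noncomputable def h0Inv : groupCohomology.functor k G 0 ≅ Rep.invariantsFunctor k G :=
  NatIso.ofComponents (fun A => groupCohomology.H0Iso A) (fun f => groupCohomology.map_id_comp_H0Iso_hom f)

instance : PreservesFiniteLimits (Rep.invariantsFunctor.{u + 1} k G) := by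
  have := (Rep.invariantsAdjunction.{u + 1} k G).rightAdjoint_preservesLimits
  infer_instance

instance : PreservesFiniteLimits (groupCohomology.functor k G 0) :=
  preservesFiniteLimits_of_natIso (h0Inv k G).symm

instance : (groupCohomology.functor k G 0).Additive := (gcDelta k G).additive 0

instance : PreservesFiniteLimits (S0 k G) := comp_preservesFiniteLimits _ _

instance : EnoughInjectives (Rep.{u + 1} k G) :=
  EnoughInjectives.of_equivalence (Rep.toModuleMonoidAlgebra.{u + 1} (k := k) (G := G))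

/-- The delta-functor of group cohomology, with values in abelian groups. -/
noncomputable def gcW : DeltaF.CohDeltaFunctor (Rep.{u + 1} k G) AddCommGrpCat.{u + 1} ℕ :=
  postComp (gcDelta k G) (forget₂ (ModuleCat.{u + 1} k) AddCommGrpCat.{u + 1})

theorem gcW_eff : (gcW k G).IsEffaceable :=
  postComp_eff _ _ (gcDelta_effaceable (k := k) (G := G))

/-- The derived functors of `H^0(G, -)` are the `H^n(G, -)`. -/
theorem nonempty_S0_rightDerived (n : ℕ) :
    Nonempty ((S0 k G).rightDerived n ≅
      groupCohomology.functor k G n ⋙ forget₂ (ModuleCat.{u + 1} k) AddCommGrpCat.{u + 1}) :=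
  nonempty_iso_of_effaceable (rdDelta (S0 k G)) (gcW k G) (rdDelta_eff _) (gcW_eff k G)
    (S0 k G).rightDerivedZeroIsoSelf n

end Abs

variable {X : Scheme.{u}} (Y : X.Etale) {k : Type (u + 1)} [CommRing k] (e : k ≃+* ℤ)
  {G : Type (u + 1)} [Group G] (σ : G →* Aut Y)

/-- Restriction to `Y` of a global section is invariant. -/
noncomputable def resInv (F : EtCoh.Ab X) :
    EtCoh.sect F (EtCoh.top X) →+ ((T e Y σ).obj F).ρ.invariants :=
  letI := secMod e Y F
  AddMonoidHom.codRestrict (F.obj.map ((EtCore.topIsTerminal X).from Y).op).hom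
    ((T e Y σ).obj F).ρ.invariants.toAddSubgroup (by
      intro x g
      change act Y σ F g _ = _
      have h : (σ g).inv ≫ (EtCore.topIsTerminal X).from Y = (EtCore.topIsTerminal X).from Y :=
        (EtCore.topIsTerminal X).hom_ext _ _
      have h2 : F.obj.map ((EtCore.topIsTerminal X).from Y).op ≫ F.obj.map (σ g).inv.op =
          F.obj.map ((EtCore.topIsTerminal X).from Y).op := by
        rw [← F.obj.map_comp, ← op_comp, h]
      exact congrArg (fun t : F.obj.obj (op (EtCoh.top X)) ⟶ F.obj.obj (op Y) => t.hom x) h2)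

theorem resInv_apply (F : EtCoh.Ab X) (x : EtCoh.sect F (EtCoh.top X)) :
    (resInv Y e σ F x).1 = (F.obj.map ((EtCore.topIsTerminal X).from Y).op).hom x := rfl

theorem bijective_resInv [Finite G] (hY : Function.Surjective Y.hom.base)
    (hgal : Nonempty (IsColimit (Cofan.mk (Y ⨯ Y) (fun g : G => prod.lift (𝟙 Y) (σ g).hom))))
    (F : EtCoh.Ab X) : Function.Bijective (resInv Y e σ F) := by
  have hF : Presieve.IsSheaf X.smallEtaleTopology (F.obj ⋙ forget AddCommGrpCat.{u + 1}) :=
    (isSheaf_iff_isSheaf_of_type _ _).1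
      ((Presheaf.isSheaf_iff_isSheaf_forget _ _ (forget AddCommGrpCat.{u + 1})).1 F.property)
  obtain ⟨hc⟩ := hgal
  have hP := K301.SigmaCofan.sect_bijective hF hc
  have h := Groth.Agent.S16268.isSheafFor_iff (EtCore.topIsTerminal X) σ
    (F.obj ⋙ forget AddCommGrpCat.{u + 1}) hP.1
  obtain ⟨h1, h2⟩ := h.1 (by
    rw [Presieve.isSheafFor_iff_generate]
    apply hF
    rw [Groth.Agent.Etbase.EtSite.mem_iff]
    intro x
    obtain ⟨y, hy⟩ := hY x
    refine ⟨Y, (EtCore.topIsTerminal X).from Y, y,
      ⟨Y, 𝟙 _, _, Presieve.singleton_self _, Category.id_comp _⟩, ?_⟩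
    have h1 : ((EtCore.topIsTerminal X).from Y).left = Y.hom := by
      have := MorphismProperty.Over.w ((EtCore.topIsTerminal X).from Y)
      exact (Category.comp_id _).symm.trans this
    exact (congrArg (fun k : Y.left ⟶ X => k y) h1).trans hy)
  constructor
  · intro a b hab
    exact h1 (congrArg Subtype.val hab)
  · rintro ⟨s, hs⟩
    have h3 : s ∈ {s : (F.obj ⋙ forget AddCommGrpCat.{u + 1}).obj (op Y) |
        ∀ g : G, (F.obj ⋙ forget AddCommGrpCat.{u + 1}).map (σ g).hom.op s = s} := by
      intro g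
      have h4 := hs g⁻¹
      have h5 : (σ g⁻¹).inv = (σ g).hom := by
        rw [map_inv]
        rfl
      have h6 : F.obj.map (σ g⁻¹).inv.op = F.obj.map (σ g).hom.op := by rw [h5]
      exact (congrArg (fun t : F.obj.obj (op Y) ⟶ F.obj.obj (op Y) => t.hom s) h6).symm.trans h4
    rw [← h2] at h3
    obtain ⟨x, hx⟩ := h3
    exact ⟨x, Subtype.ext hx⟩

/-- The comparison of global sections and invariants. -/
noncomputable def resInvMor (F : EtCoh.Ab X) :
    (Γtop X).obj F ⟶ (T e Y σ ⋙ Rep.invariantsFunctor.{u + 1} k G ⋙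
      forget₂ (ModuleCat.{u + 1} k) AddCommGrpCat.{u + 1}).obj F :=
  AddCommGrpCat.ofHom (resInv Y e σ F)

theorem resInvMor_naturality {F F' : EtCoh.Ab X} (φ : F ⟶ F') :
    (Γtop X).map φ ≫ resInvMor Y e σ F' = resInvMor Y e σ F ≫ (T e Y σ ⋙ Rep.invariantsFunctor.{u + 1} k G ⋙
      forget₂ (ModuleCat.{u + 1} k) AddCommGrpCat.{u + 1}).map φ := by
  refine AddCommGrpCat.hom_ext (AddMonoidHom.ext fun x => Subtype.ext ?_)
  exact ConcreteCategory.congr_hom (φ.hom.naturality ((EtCore.topIsTerminal X).from Y).op).symm x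

/-- Global sections are invariants. -/
noncomputable def gammaIso [Finite G] (hY : Function.Surjective Y.hom.base)
    (hgal : Nonempty (IsColimit (Cofan.mk (Y ⨯ Y) (fun g : G => prod.lift (𝟙 Y) (σ g).hom)))) :
    Γtop X ≅ T e Y σ ⋙ S0 k G :=
  have : ∀ F, IsIso (resInvMor Y e σ F) := fun F =>
    (ConcreteCategory.isIso_iff_bijective _).2 (bijective_resInv Y e σ hY hgal F)
  NatIso.ofComponents (fun F => asIso (resInvMor Y e σ F)) (resInvMor_naturality Y e σ) ≪≫
    Functor.isoWhiskerLeft (T e Y σ) (Functor.isoWhiskerRight (h0Inv k G).symm _)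

end K300.HS
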