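import Groth.Agent.EtCore.K300.HSAcyc
import Groth.Agent.Etcore.HpVia
import Groth.Agent.EtpbcB.Big

/-!
# Sections over `Y` and global sections of the restriction to `Y`, equivariantly
-/

set_option autoImplicit false
set_option linter.unusedVariables false
set_option backward.isDefEq.respectTransparency.types false
universe u
open CategoryTheory CategoryTheory.Limits AlgebraicGeometry Opposite Abelian
open scoped Groth.Agent.Etcore.EtInst
open Groth.Agent.Etcore.EtInst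

namespace K300.HS

open EtShriek Groth.Agent.EtpbcA.OverSite Groth.Agent.Etcore.PullCoh Groth.Agent.Etcore.HpullCalc

variable {X : Scheme.{u}} (Y : X.Etale)

/-- The section over `Y` as a global section of the restriction. -/
noncomputable def aY (F : EtCoh.Ab X) (s : EtCoh.sect F Y) :
    EtCoh.sect ((EtCoh.pull (pY Y)).obj F) (EtCoh.top Y.left) :=
  ((EtCoh.pull (pY Y)).obj F).obj.map (dg Y).op (eta (pY Y) F Y s)

/-- Global sections of the restriction to `Y` are sections over `Y`. -/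
noncomputable def alObj (F : EtCoh.Ab X) :
    ((EtCoh.pull (pY Y)).obj F).obj.obj (op (EtCoh.top Y.left)) ⟶ F.obj.obj (op Y) :=
  ((pullIsoRestr (pY Y)).hom.app F).hom.app (op (EtCoh.top Y.left)) ≫ F.obj.map (kapInv Y).op

instance isIso_kapInv : IsIso (kapInv Y) := ⟨kap Y, kapInv_kap Y, kap_kapInv Y⟩

theorem pir_inv_hom (F : EtCoh.Ab X) (W : Y.left.Etaleᵒᵖ) :
    ((pullIsoRestr (pY Y)).hom.app F).hom.app W ≫ ((pullIsoRestr (pY Y)).inv.app F).hom.app W = 𝟙 _ := by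
  have h := congrArg (fun t => t.hom.app W) ((pullIsoRestr (pY Y)).hom_inv_id_app F)
  exact h

theorem pir_hom_inv (F : EtCoh.Ab X) (W : Y.left.Etaleᵒᵖ) :
    ((pullIsoRestr (pY Y)).inv.app F).hom.app W ≫ ((pullIsoRestr (pY Y)).hom.app F).hom.app W = 𝟙 _ := by
  have h := congrArg (fun t => t.hom.app W) ((pullIsoRestr (pY Y)).inv_hom_id_app F)
  exact h

instance isIso_pir (F : EtCoh.Ab X) (W : Y.left.Etaleᵒᵖ) :
    IsIso (((pullIsoRestr (pY Y)).hom.app F).hom.app W) :=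
  ⟨((pullIsoRestr (pY Y)).inv.app F).hom.app W, pir_inv_hom Y F W, pir_hom_inv Y F W⟩

instance isIso_alObj (F : EtCoh.Ab X) : IsIso (alObj Y F) := by
  have h1 := isIso_pir Y F (op (EtCoh.top Y.left))
  have h2 : IsIso (F.obj.map (kapInv Y).op) := inferInstance
  exact @IsIso.comp_isIso _ _ _ _ _ _ _ h1 h2

theorem alObj_naturality {F F' : EtCoh.Ab X} (φ : F ⟶ F') :
    ((EtCoh.pull (pY Y)).map φ).hom.app (op (EtCoh.top Y.left)) ≫ alObj Y F' =
      alObj Y F ≫ φ.hom.app (op Y) := by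
  have h1 := congrArg (fun t => t.hom.app (op (EtCoh.top Y.left))) ((pullIsoRestr (pY Y)).hom.naturality φ)
  have h2 : ((EtCoh.pull (pY Y)).map φ).hom.app (op (EtCoh.top Y.left)) ≫
      ((pullIsoRestr (pY Y)).hom.app F').hom.app (op (EtCoh.top Y.left)) =
      ((pullIsoRestr (pY Y)).hom.app F).hom.app (op (EtCoh.top Y.left)) ≫ φ.hom.app (op (Y' Y)) := h1
  have h3 : φ.hom.app (op (Y' Y)) ≫ F'.obj.map (kapInv Y).op = F.obj.map (kapInv Y).op ≫ φ.hom.app (op Y) :=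
    (φ.hom.naturality (kapInv Y).op).symm
  rw [alObj, alObj, ← Category.assoc, h2]
  exact (Category.assoc _ _ _).trans ((congrArg (fun t => _ ≫ t) h3).trans (Category.assoc _ _ _).symm)

theorem kapInv_dg_counit :
    (kapInv Y ≫ (compEtale (pY Y)).map (dg Y)) ≫ (compEtaleAdj (pY Y)).counit.app Y = 𝟙 Y := by
  apply MorphismProperty.Over.Hom.ext
  change (𝟙 Y.left ≫ (dg Y).left) ≫ pullback.fst Y.hom (pY Y) = 𝟙 Y.left
  rw [Category.id_comp]
  exact pullback.lift_fst _ _ _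

theorem pir_eta (F : EtCoh.Ab X) (s : EtCoh.sect F Y) :
    ((pullIsoRestr (pY Y)).hom.app F).hom.app (op ((EtCoh.bc (pY Y)).obj Y)) (eta (pY Y) F Y s) =
      F.obj.map ((compEtaleAdj (pY Y)).counit.app Y).op s :=
  congrArg (fun t => t.hom.app (op Y) s) (unit_pullIsoRestr (pY Y) F)

theorem alObj_aY (F : EtCoh.Ab X) (s : EtCoh.sect F Y) : alObj Y F (aY Y F s) = s := by
  change F.obj.map (kapInv Y).op (((pullIsoRestr (pY Y)).hom.app F).hom.app (op (EtCoh.top Y.left)) (aY Y F s)) = s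
  have h1 : ((pullIsoRestr (pY Y)).hom.app F).hom.app (op (EtCoh.top Y.left)) (aY Y F s) =
      F.obj.map ((compEtale (pY Y)).map (dg Y)).op (F.obj.map ((compEtaleAdj (pY Y)).counit.app Y).op s) := by
    rw [aY, map_res, pir_eta]
    rfl
  rw [h1, ← res_comp, ← res_comp, kapInv_dg_counit, res_id]

theorem aY_alObj (F : EtCoh.Ab X) (z : EtCoh.sect ((EtCoh.pull (pY Y)).obj F) (EtCoh.top Y.left)) :
    aY Y F (alObj Y F z) = z := by
  have h : Function.Injective (alObj Y F) := (ConcreteCategory.bijective_of_isIso (alObj Y F)).1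
  exact h (alObj_aY Y F _)

theorem bcTop_left {M M' : Scheme.{u}} (m : M' ⟶ M) :
    (EtCore.bcTopIso m).inv.left ≫ pullback.fst (EtCoh.top M).hom m = m := by
  have h3 : (EtCore.bcTopIso m).inv.left ≫ pullback.snd (EtCoh.top M).hom m = 𝟙 M' :=
    MorphismProperty.Over.w (EtCore.bcTopIso m).inv
  have h4 : pullback.fst (EtCoh.top M).hom m = pullback.snd (EtCoh.top M).hom m ≫ m :=
    (Category.comp_id _).symm.trans (pullback.condition (f := (EtCoh.top M).hom) (g := m))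
  exact (congrArg (fun t => (EtCore.bcTopIso m).inv.left ≫ t) h4).trans ((Category.assoc _ _ _).symm.trans
    ((congrArg (fun t => t ≫ m) h3).trans (Category.id_comp _)))

theorem key_abs {C : Type*} [Category* C] {A B D P P' Z : C} {i : A ⟶ B} {m : B ⟶ D} {c : D ⟶ P} {q : P ⟶ Z}
    {f1 : D ⟶ P'} {q' : P' ⟶ Z} {g : B ⟶ Z} {d : Z ⟶ P'} {t : A ⟶ Z} (e1 : c ≫ q = f1 ≫ q') (e2 : m ≫ f1 = g ≫ d)
    (e3 : d ≫ q' = 𝟙 Z) (e4 : i ≫ g = t) : ((i ≫ m) ≫ c) ≫ q = t := by
  rw [Category.assoc, e1, Category.assoc, ← Category.assoc m, e2, Category.assoc, e3, Category.comp_id, e4]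

theorem key_abs2 {C : Type*} [Category* C] {P' Z : C} {q' : P' ⟶ Z} {d : Z ⟶ P'} {t : Z ⟶ Z} {b : P' ⟶ P'}
    (e3 : d ≫ q' = 𝟙 Z) (e5 : b ≫ q' = q' ≫ t) : (d ≫ b) ≫ q' = t := by
  rw [Category.assoc, e5, ← Category.assoc, e3, Category.id_comp]

variable (τ : Y ⟶ Y)

theorem tau_w : τ.left ≫ pY Y = pY Y := MorphismProperty.Over.w τ

theorem key_left :
    ((EtCore.bcTopIso τ.left).inv ≫ (EtCoh.bc τ.left).map (dg Y)) ≫ bcComp τ.left (pY Y) (pY Y) (tau_w Y τ) Y =
      dg Y ≫ (EtCoh.bc (pY Y)).map τ := by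
  apply hom_bc_ext
  have e1 : (bcComp τ.left (pY Y) (pY Y) (tau_w Y τ) Y).left ≫ pullback.fst Y.hom (pY Y) =
      pullback.fst (pullback.snd Y.hom (pY Y)) τ.left ≫ pullback.fst Y.hom (pY Y) := bcComp_left_fst _ _ _ _ _
  have e2 : ((EtCoh.bc τ.left).map (dg Y)).left ≫ pullback.fst (pullback.snd Y.hom (pY Y)) τ.left =
      pullback.fst (EtCoh.top Y.left).hom τ.left ≫ (dg Y).left := (EtCoh.isPullback_bc_map τ.left (dg Y)).w
  have e3 : (dg Y).left ≫ pullback.fst Y.hom (pY Y) = 𝟙 Y.left := pullback.lift_fst _ _ _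
  have e4 := bcTop_left τ.left
  have e5 : ((EtCoh.bc (pY Y)).map τ).left ≫ pullback.fst Y.hom (pY Y) = pullback.fst Y.hom (pY Y) ≫ τ.left :=
    (EtCoh.isPullback_bc_map (pY Y) τ).w
  exact (key_abs e1 e2 e3 e4).trans (key_abs2 e3 e5).symm

theorem unitSec_apply {M M' : Scheme.{u}} (m : M' ⟶ M) (G : EtCoh.Ab M)
    (z : EtCoh.sect G (EtCoh.top M)) :
    (unitSec m G).hom z = ((EtCoh.pull m).obj G).obj.map (EtCore.bcTopIso m).inv.op
        (eta m G (EtCoh.top M) z) := rfl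

/-- The pullback along `τ` on `H^0` of the restriction to `Y` is restriction along `τ`. -/
theorem H0_hpVia [PreservesFiniteLimits (EtCoh.pull τ.left)] (F : EtCoh.Ab X)
    (x : HH Y.left ((EtCoh.pull (pY Y)).obj F) 0) :
    alObj Y F (H0 Y.left _ (hpVia τ.left (pY Y) (pY Y) (tau_w Y τ) F 0 x)) =
      F.obj.map τ.op (alObj Y F (H0 Y.left _ x)) := by
  obtain ⟨s, hs⟩ : ∃ s, aY Y F s = H0 Y.left _ x := ⟨_, aY_alObj Y F _⟩
  have h1 : (unitSec τ.left ((EtCoh.pull (pY Y)).obj F)).hom (aY Y F s) =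
      ((EtCoh.pull τ.left).obj ((EtCoh.pull (pY Y)).obj F)).obj.map
        ((EtCore.bcTopIso τ.left).inv ≫ (EtCoh.bc τ.left).map (dg Y)).op
        (eta τ.left _ _ (eta (pY Y) F Y s)) := by
    rw [unitSec_apply, aY, eta_res, ← res_comp]
  have h2 : H0 Y.left _ (hpVia τ.left (pY Y) (pY Y) (tau_w Y τ) F 0 x) = aY Y F (F.obj.map τ.op s) := by
    rw [Groth.Agent.Etcore.HpVia.hpVia_eq, H0_map, hp_zero, ← hs, h1, th_unit_res, key_left, res_comp, aY, eta_res]
  rw [h2, alObj_aY, ← hs, alObj_aY]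

end K300.HS
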