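import Groth.Agent.EtCore.K300.HSDeg0
import Groth.Agent.EtCore.K300.EtDelta
import Groth.Agent.EtpbcB.NKillOpen

/-!
# The derived functors of `F ↦ F(Y)` (as a representation) are the `H^q(Y, F)` with the action by pullback
-/

set_option autoImplicit false
set_option linter.unusedVariables false
set_option backward.isDefEq.respectTransparency.types false
universe u
open CategoryTheory CategoryTheory.Limits AlgebraicGeometry Opposite Abelian
open scoped Groth.Agent.Etcore.EtInst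
open Groth.Agent.Etcore.EtInst

namespace K300.HS

open EtShriek Groth.Agent.EtpbcA.OverSite Groth.Agent.Etcore.PullCoh Groth.Agent.Etcore.HpullCalc
open K300.DeltaTools K300.EtDelta Groth.Agent.EtpbcB.SepClosedPoint DeltaF

variable {X : Scheme.{u}} (Y : X.Etale)

/-- The delta-functor `H^n(Y, F|_Y)`. -/
noncomputable def hYD : CohDeltaFunctor (EtCoh.Ab X) AddCommGrpCat.{u + 1} ℕ :=
  preComp (EtCoh.pull (pY Y)) (extDelta (EtCoh.const Y.left ℤ))

theorem hYD_eff : (hYD Y).IsEffaceable := by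
  rw [K988.DeltaFUniv.isEffaceable_iff]
  intro n I hI
  have h1 : Injective ((EtCoh.pull (pY Y)).obj I) := Groth.Agent.EtpbcB.NKillOpen.injective_pull (pY Y) I
  have h2 : Subsingleton (HH Y.left ((EtCoh.pull (pY Y)).obj I) (n + 1)) :=
    Ext.subsingleton_of_injective _ _ n
  exact @AddCommGrpCat.isZero_of_subsingleton (AddCommGrpCat.of (HH Y.left ((EtCoh.pull (pY Y)).obj I) (n + 1))) h2

/-- The degree zero part. -/
noncomputable def d0Obj (F : EtCoh.Ab X) : ((hYD Y).F 0).obj F ≅ (ev Y).obj F :=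
  (H0 Y.left ((EtCoh.pull (pY Y)).obj F)).toAddCommGrpIso ≪≫ asIso (alObj Y F)

theorem d0Obj_apply (F : EtCoh.Ab X) (x : HH Y.left ((EtCoh.pull (pY Y)).obj F) 0) :
    (d0Obj Y F).hom.hom x = alObj Y F (H0 Y.left _ x) := rfl

theorem d0Obj_naturality {F F' : EtCoh.Ab X} (φ : F ⟶ F') :
    ((hYD Y).F 0).map φ ≫ (d0Obj Y F').hom = (d0Obj Y F).hom ≫ (ev Y).map φ := by
  refine AddCommGrpCat.hom_ext (AddMonoidHom.ext fun (x : HH Y.left ((EtCoh.pull (pY Y)).obj F) 0) => ?_)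
  change alObj Y F' (H0 Y.left _ (HHmap ((EtCoh.pull (pY Y)).map φ) 0 x)) =
    φ.hom.app (op Y) (alObj Y F (H0 Y.left _ x))
  rw [H0_map]
  exact ConcreteCategory.congr_hom (alObj_naturality Y φ) (H0 Y.left _ x)

/-- The degree zero part of `hYD`. -/
noncomputable def d0 : (hYD Y).F 0 ≅ ev Y := NatIso.ofComponents (d0Obj Y) (d0Obj_naturality Y)

section Beta

variable (τ : Y ⟶ Y) [PreservesFiniteLimits (EtCoh.pull τ.left)]

/-- The pullback along `τ`. -/
noncomputable def betaApp (n : ℕ) : (hYD Y).F n ⟶ (hYD Y).F n where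
  app F := AddCommGrpCat.ofHom (hpVia τ.left (pY Y) (pY Y) (tau_w Y τ) F n)
  naturality F F' φ := by
    refine AddCommGrpCat.hom_ext (AddMonoidHom.ext fun (x : HH Y.left ((EtCoh.pull (pY Y)).obj F) n) => ?_)
    exact hpVia_map τ.left (pY Y) (pY Y) (tau_w Y τ) φ n x

theorem comp_extClass_comp {A : Type*} [Category* A] [Abelian A] [HasExt.{u + 1} A]
    {S₁ S₂ : ShortComplex A} (h₁ : S₁.ShortExact) (h₂ : S₂.ShortExact)
    (φ : S₁ ⟶ S₂) {G : A} {p q : ℕ} (hpq : p + 1 = q) (z : Ext G S₁.X₃ p) :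
    (z.comp h₁.extClass hpq).comp (Ext.mk₀ φ.τ₁) (add_zero q) =
      (z.comp (Ext.mk₀ φ.τ₃) (add_zero p)).comp h₂.extClass hpq := by
  rw [Ext.comp_assoc_of_third_deg_zero, ShortComplex.ShortExact.extClass_naturality h₁ h₂ φ,
    ← Ext.comp_assoc_of_second_deg_zero]

theorem hpVia_extClass {K : ShortComplex (EtCoh.Ab X)} (hK : K.ShortExact)
    {n n' : ℕ} (hn : n + 1 = n') (x : HH Y.left ((EtCoh.pull (pY Y)).obj K.X₃) n) :
    hpVia τ.left (pY Y) (pY Y) (tau_w Y τ) K.X₁ n' (Ext.comp x (hK.map_of_exact (EtCoh.pull (pY Y))).extClass hn) =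
      Ext.comp (hpVia τ.left (pY Y) (pY Y) (tau_w Y τ) K.X₃ n x) (hK.map_of_exact (EtCoh.pull (pY Y))).extClass hn := by
  have h3 := hp_extClass τ.left (hK.map_of_exact (EtCoh.pull (pY Y))) hn x
  let S₁ := (K.map (EtCoh.pull (pY Y))).map (EtCoh.pull τ.left)
  let S₂ := K.map (EtCoh.pull (pY Y))
  let φ : S₁ ⟶ S₂ :=
    { τ₁ := th τ.left (pY Y) (pY Y) (tau_w Y τ) K.X₁
      τ₂ := th τ.left (pY Y) (pY Y) (tau_w Y τ) K.X₂
      τ₃ := th τ.left (pY Y) (pY Y) (tau_w Y τ) K.X₃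
      comm₁₂ := (th_nat τ.left (pY Y) (pY Y) (tau_w Y τ) K.f).symm
      comm₂₃ := (th_nat τ.left (pY Y) (pY Y) (tau_w Y τ) K.g).symm }
  have h4 := comp_extClass_comp ((hK.map_of_exact (EtCoh.pull (pY Y))).map_of_exact (EtCoh.pull τ.left))
    (hK.map_of_exact (EtCoh.pull (pY Y))) φ hn (hp τ.left _ n x)
  rw [Groth.Agent.Etcore.HpVia.hpVia_eq, Groth.Agent.Etcore.HpVia.hpVia_eq, HHmap_apply, HHmap_apply]
  exact (congrArg (fun z => Ext.comp z (Ext.mk₀ (th τ.left (pY Y) (pY Y) (tau_w Y τ) K.X₁)) (add_zero n')) h3).trans h4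

/-- The pullback along `τ`, as a morphism of delta-functors. -/
noncomputable def beta : hYD Y ⟶ hYD Y :=
  { app := betaApp Y τ
    comm := fun S hS n₀ n₁ h => by
      refine AddCommGrpCat.hom_ext (AddMonoidHom.ext fun (x : HH Y.left ((EtCoh.pull (pY Y)).obj S.X₃) n₀) => ?_)
      exact hpVia_extClass Y τ hS h x : CohDeltaFunctor.Hom (hYD Y) (hYD Y) }

theorem d0_beta (F : EtCoh.Ab X) (x : HH Y.left ((EtCoh.pull (pY Y)).obj F) 0) :
    ((d0 Y).hom.app F).hom ((((beta Y τ).app 0).app F).hom x) = F.obj.map τ.op (((d0 Y).hom.app F).hom x) :=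
  H0_hpVia Y τ F x

end Beta


end K300.HS
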