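import Groth.Agent.EtCore.K300.HSDelta
import Groth.Agent.EtCore.K300.HSComp

/-!
# The derived functors of `F ↦ F(Y)` (as a representation) are the `H^q(Y, F)`, equivariantly
-/

set_option autoImplicit false
set_option linter.unusedVariables false
set_option backward.isDefEq.respectTransparency.types false
universe w v u
open CategoryTheory CategoryTheory.Limits AlgebraicGeometry Opposite Abelian
open scoped Groth.Agent.Etcore.EtInst
open Groth.Agent.Etcore.EtInst

namespace K300.HS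

open EtShriek Groth.Agent.EtpbcA.OverSite Groth.Agent.Etcore.PullCoh Groth.Agent.Etcore.HpullCalc
open K300.DeltaTools K300.EtDelta Groth.Agent.EtpbcB.SepClosedPoint DeltaF

section Abs

variable {A : Type v} [Category.{w} A] {P Q R : A ⥤ AddCommGrpCat.{u + 1}}

theorem iso_abs (c : P ≅ R) (d : Q ≅ R) (F : A) (x : P.obj F) :
    (d.hom.app F).hom (((c ≪≫ d.symm).hom.app F).hom x) = (c.hom.app F).hom x := by
  have h : (c ≪≫ d.symm).hom.app F ≫ d.hom.app F = c.hom.app F := by simp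
  exact ConcreteCategory.congr_hom h x

theorem comm_abs (c : P ≅ R) (d : Q ≅ R) (a : P ⟶ P) (b : Q ⟶ Q) (r : R ⟶ R)
    (h1 : a ≫ c.hom = c.hom ≫ r) (h2 : b ≫ d.hom = d.hom ≫ r) :
    a ≫ (c ≪≫ d.symm).hom = (c ≪≫ d.symm).hom ≫ b := by
  have h3 : d.inv ≫ b = r ≫ d.inv := by
    rw [← cancel_mono d.hom, Category.assoc, h2, Category.assoc, d.inv_hom_id, Category.comp_id, ← Category.assoc,
      d.inv_hom_id, Category.id_comp]
  simp [reassoc_of% h1, h3]

variable [Abelian A] {T T' : CohDeltaFunctor A AddCommGrpCat.{u + 1} ℕ}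

/-- Isomorphic degree zero parts extend to an isomorphism commuting with a family of endomorphisms. -/
theorem exists_equivariant (hT : T.IsEffaceable) (hT' : T'.IsEffaceable) (e0 : T.F 0 ≅ T'.F 0) {J : Type*}
    (a : J → (T ⟶ T)) (b : J → (T' ⟶ T')) (hab : ∀ j, (a j).app 0 ≫ e0.hom = e0.hom ≫ (b j).app 0) (q : ℕ) :
    ∃ ι : T.F q ≅ T'.F q, ∀ j, (a j).app q ≫ ι.hom = ι.hom ≫ (b j).app q := by
  obtain ⟨φ, hφ, -⟩ := K988.DeltaFUniv.existsUnique_iso T T'
    (K988.DeltaFUniv.isUniversal hT) (K988.DeltaFUniv.isUniversal hT') e0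
  have h1 : φ.hom.app q ≫ φ.inv.app q = 𝟙 _ :=
    congrArg (fun t => CohDeltaFunctor.Hom.app t q) φ.hom_inv_id
  have h2 : φ.inv.app q ≫ φ.hom.app q = 𝟙 _ :=
    congrArg (fun t => CohDeltaFunctor.Hom.app t q) φ.inv_hom_id
  refine ⟨⟨φ.hom.app q, φ.inv.app q, h1, h2⟩, fun j => ?_⟩
  have h3 : a j ≫ φ.hom = φ.hom ≫ b j := by
    obtain ⟨c, hc, hc'⟩ := (K988.DeltaFUniv.isUniversal hT) T' ((a j).app 0 ≫ e0.hom)
    rw [hc' (a j ≫ φ.hom) (by
        beta_reduce
        rw [CohDeltaFunctor.comp_app, hφ]),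
      hc' (φ.hom ≫ b j) (by
        beta_reduce
        rw [CohDeltaFunctor.comp_app, hφ]
        exact (hab j).symm)]
  exact congrArg (fun t => CohDeltaFunctor.Hom.app t q) h3

end Abs

variable {X : Scheme.{u}} (Y : X.Etale)

variable {k : Type (u + 1)} [CommRing k] (e : k ≃+* ℤ) {G : Type (u + 1)} [Group G] (σ : G →* Aut Y)

/-- The action of `g` on the underlying groups of representations. -/
noncomputable def actW (g : G) : W k G ⟶ W k G where
  app M := AddCommGrpCat.ofHom (M.ρ g).toAddMonoidHom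
  naturality M N f := by
    refine AddCommGrpCat.hom_ext (AddMonoidHom.ext fun x => ?_)
    exact (Rep.hom_comm_apply f g x).symm

theorem actW_apply (g : G) (M : Rep.{u + 1} k G) (x : M.V) : ((actW g).app M).hom x = M.ρ g x := rfl

/-- The underlying delta-functor of the derived functors of `T`. -/
noncomputable def tW : CohDeltaFunctor (EtCoh.Ab X) AddCommGrpCat.{u + 1} ℕ :=
  postComp (rdDelta (T e Y σ)) (W k G)

theorem tW_eff : (tW Y e σ).IsEffaceable := postComp_eff _ _ (rdDelta_eff _)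

/-- The action on the derived functors. -/
noncomputable def alpha (g : G) : tW Y e σ ⟶ tW Y e σ :=
  { app := fun n => Functor.whiskerLeft ((T e Y σ).rightDerived n) (actW g)
    comm := fun S hS n₀ n₁ h => (actW g).naturality ((rdDelta (T e Y σ)).δ S hS n₀ n₁ h) :
      CohDeltaFunctor.Hom (tW Y e σ) (tW Y e σ) }

theorem alpha_apply (g : G) (n : ℕ) (F : EtCoh.Ab X) (x : (((T e Y σ).rightDerived n).obj F).V) :
    (((alpha Y e σ g).app n).app F).hom x = (((T e Y σ).rightDerived n).obj F).ρ g x := rfl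

/-- The degree zero part of `tW`. -/
noncomputable def c0 : (tW Y e σ).F 0 ≅ ev Y :=
  Functor.isoWhiskerRight ((T e Y σ).rightDerivedZeroIsoSelf) (W k G) ≪≫ TW e Y σ

/-- Restriction along `τ` on sections. -/
noncomputable def evMap (τ : Y ⟶ Y) : ev Y ⟶ ev Y where
  app F := F.obj.map τ.op
  naturality F F' φ := (φ.hom.naturality τ.op).symm

theorem c0_alpha (g : G) : (alpha Y e σ g).app 0 ≫ (c0 Y e σ).hom = (c0 Y e σ).hom ≫ evMap Y (σ g).inv :=
  NatTrans.ext (funext fun F => AddCommGrpCat.hom_ext (AddMonoidHom.ext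
    fun (x : (((T e Y σ).rightDerived 0).obj F).V) =>
      Rep.hom_comm_apply ((T e Y σ).rightDerivedZeroIsoSelf.hom.app F) g x))

theorem d0_beta' (τ : Y ⟶ Y) [PreservesFiniteLimits (EtCoh.pull τ.left)] :
    (beta Y τ).app 0 ≫ (d0 Y).hom = (d0 Y).hom ≫ evMap Y τ :=
  NatTrans.ext (funext fun F => AddCommGrpCat.hom_ext (AddMonoidHom.ext
    fun (x : HH Y.left ((EtCoh.pull (pY Y)).obj F) 0) => d0_beta Y τ F x))

/-- The derived functors of `T` are the cohomology of `Y`, equivariantly. -/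
theorem exists_iso [∀ g : G, PreservesFiniteLimits (EtCoh.pull (σ g).inv.left)] (q : ℕ) :
    ∃ ι : (tW Y e σ).F q ≅ (hYD Y).F q,
      ∀ g : G, (alpha Y e σ g).app q ≫ ι.hom = ι.hom ≫ (beta Y (σ g).inv).app q :=
  exists_equivariant (tW_eff Y e σ) (hYD_eff Y) (c0 Y e σ ≪≫ (d0 Y).symm) (fun g => alpha Y e σ g)
    (fun g => beta Y (σ g).inv) (fun g => comm_abs _ _ _ _ (evMap Y (σ g).inv) (c0_alpha Y e σ g)
      (d0_beta' Y (σ g).inv)) q

theorem exists_equiv [∀ g : G, PreservesFiniteLimits (EtCoh.pull (σ g).inv.left)] (F : EtCoh.Ab X) (q : ℕ) :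
    ∃ E : (((T e Y σ).rightDerived q).obj F).V ≃+ HH Y.left ((EtCoh.pull (pY Y)).obj F) q,
      ∀ (g : G) (x : (((T e Y σ).rightDerived q).obj F).V),
        E ((((T e Y σ).rightDerived q).obj F).ρ g x) =
          hpVia (σ g).inv.left (pY Y) (pY Y) (tau_w Y (σ g).inv) F q (E x) := by
  obtain ⟨ι, hι⟩ := exists_iso Y e σ q
  exact ⟨(ι.app F).addCommGroupIsoToAddEquiv, fun g x =>
    ConcreteCategory.congr_hom (congrArg (fun t => NatTrans.app t F) (hι g)) x⟩

end K300.HS
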