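import Groth.Agent.EtCore.K300.HSDelta2
import Groth.Agent.S11918
import Groth.Agent.Etcore.HpullViaEq
import Groth.Agent.Sga4h.RDExact

/-!
# The Hochschild–Serre spectral sequence
-/

set_option autoImplicit false
set_option linter.unusedVariables false
universe u
open CategoryTheory CategoryTheory.Limits AlgebraicGeometry Opposite Abelian
open scoped ZeroObject

namespace K300.HS

open K300.DeltaTools K300.EtDelta Groth.Agent.EtpbcB.SepClosedPoint Groth.Agent.EtpbcB.GammaRpush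

section Abs

variable {k : Type (u + 1)} [CommRing k] (e : k ≃+* ℤ) {G : Type (u + 1)} [Group G]

include e in
/-- An equivariant additive bijection is an isomorphism of representations. -/
theorem nonempty_repIso (M N : Rep.{u + 1} k G) (f : M.V ≃+ N.V) (hf : ∀ (g : G) (x : M.V), f (M.ρ g x) = N.ρ g (f x)) :
    Nonempty (M ≅ N) := by
  let φ : M ⟶ N := Rep.ofHom (ρ := M.ρ) (σ := N.ρ)
    { toLinearMap := toLin e f.toAddMonoidHom
      isIntertwining' := fun g => LinearMap.ext fun x => hf g x }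
  have h1 : Function.Bijective φ.hom := f.bijective
  have h2 : IsIso ((forget (Rep.{u + 1} k G)).map φ) := (isIso_iff_bijective _).2 h1
  have h3 : IsIso φ := isIso_of_reflects_iso φ (forget (Rep.{u + 1} k G))
  exact ⟨asIso φ⟩

theorem isZero_pUnit : IsZero (AddCommGrpCat.of PUnit.{u + 2}) := AddCommGrpCat.isZero_of_subsingleton _

end Abs

variable {X : Scheme.{u}} (Y : X.Etale) {k : Type (u + 1)} [CommRing k] (e : k ≃+* ℤ)
  {G : Type (u + 1)} [Group G] (σ : G →* Aut Y)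

theorem acyclic_T [Finite G] (hY : Function.Surjective Y.hom.base)
    (hgal : Nonempty (IsColimit (Cofan.mk (Y ⨯ Y) (fun g : G => prod.lift (𝟙 Y) (σ g).hom))))
    (Q : EtCoh.Ab X) (hQ : Injective Q) (q : ℕ) (hq : 0 < q) :
    IsZero (((S0 k G).rightDerived q).obj ((T e Y σ).obj Q)) := by
  obtain ⟨m, rfl⟩ : ∃ m, q = m + 1 := ⟨q - 1, by omega⟩
  obtain ⟨i⟩ := nonempty_S0_rightDerived k G (m + 1)
  refine IsZero.of_iso ?_ (i.app ((T e Y σ).obj Q))
  exact (forget₂ (ModuleCat.{u + 1} k) AddCommGrpCat.{u + 1}).map_isZero (isZero_injective Y σ e hgal hY Q m)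

theorem nonempty_abut [Finite G] (hY : Function.Surjective Y.hom.base)
    (hgal : Nonempty (IsColimit (Cofan.mk (Y ⨯ Y) (fun g : G => prod.lift (𝟙 Y) (σ g).hom))))
    (F : EtCoh.Ab X) (n : ℕ) :
    Nonempty (((T e Y σ ⋙ S0 k G).rightDerived n).obj F ≅ AddCommGrpCat.of (EtCoh.H X F n)) := by
  obtain ⟨i⟩ := H_rightDerived X F n
  exact ⟨((Groth.Agent.Sga4h.RDExact.congrIso (gammaIso Y e σ hY hgal) n).app F).symm ≪≫
    i.symm.toAddCommGrpIso⟩

/-- **Hochschild–Serre**, with coefficients in the representations `R^q T(F)`. -/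
theorem exists_ss [Finite G] (hY : Function.Surjective Y.hom.base)
    (hgal : Nonempty (IsColimit (Cofan.mk (Y ⨯ Y) (fun g : G => prod.lift (𝟙 Y) (σ g).hom))))
    (F : EtCoh.Ab X) (A : ℕ → Rep.{u + 1} k G) (hA : ∀ q, Nonempty (((T e Y σ).rightDerived q).obj F ≅ A q)) :
    ∃ (E : E₂CohomologicalSpectralSequence AddCommGrpCat.{u + 1})
      (a : SpSeq.Abutment E (fun n : ℤ =>
        if 0 ≤ n then AddCommGrpCat.of (EtCoh.H X F n.toNat) else AddCommGrpCat.of PUnit.{u + 2})),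
      (∀ n, a.IsFinite n) ∧ SpSeq.IsBounded E ∧
      ∀ p q : ℤ, Nonempty ((E.page 2 le_rfl).X (p, q) ≅
        (if 0 ≤ p ∧ 0 ≤ q then AddCommGrpCat.of (groupCohomology (A q.toNat) p.toNat)
         else AddCommGrpCat.of PUnit.{u + 2})) := by
  obtain ⟨E, a, ha, hb, hE⟩ := Groth.Agent.S11918.result (T e Y σ) (S0 k G)
    (fun Q hQ q hq => acyclic_T Y e σ hY hgal Q hQ q hq) F
  obtain ⟨a', ha'⟩ := K224.SpAbut.exists_abutment_iso a ha
    (H' := fun n : ℤ => if 0 ≤ n then AddCommGrpCat.of (EtCoh.H X F n.toNat) else AddCommGrpCat.of PUnit.{u + 2})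
    (fun n => by
      by_cases hn : 0 ≤ n
      · rw [if_pos hn, if_pos hn]
        exact nonempty_abut Y e σ hY hgal F n.toNat
      · rw [if_neg hn, if_neg hn]
        exact ⟨(isZero_zero _).iso isZero_pUnit⟩)
  refine ⟨E, a', ha', hb, fun p q => ?_⟩
  obtain ⟨i⟩ := hE p q
  by_cases hpq : 0 ≤ p ∧ 0 ≤ q
  · rw [if_pos hpq] at i ⊢
    obtain ⟨j⟩ := nonempty_S0_rightDerived k G p.toNat
    obtain ⟨l⟩ := hA q.toNat
    exact ⟨i ≪≫ j.app _ ≪≫ (groupCohomology.functor k G p.toNat ⋙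
      forget₂ (ModuleCat.{u + 1} k) AddCommGrpCat.{u + 1}).mapIso l⟩
  · rw [if_neg hpq] at i ⊢
    exact ⟨i ≪≫ (isZero_zero _).iso isZero_pUnit⟩

end K300.HS
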