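import Groth.Prelude.Def_EtCore
import Mathlib.RepresentationTheory.Rep.Basic

/-!
# Sections over an étale scheme with a group action, as a representation

`T Y σ : EtCoh.Ab X ⥤ Rep k G` for `σ : G →* Aut Y`: `F ↦ F(Y)` where `g` acts by restriction along `(σ g)⁻¹`;
here `k` is a ring with an isomorphism `e : k ≃+* ℤ`.
-/

set_option autoImplicit false
set_option linter.unusedVariables false
universe u
open CategoryTheory CategoryTheory.Limits AlgebraicGeometry Opposite

namespace K300.HS

section Lin

variable {k : Type (u + 1)} [CommRing k] (e : k ≃+* ℤ)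

include e in
theorem smul_eq {M : Type (u + 1)} [AddCommGroup M] [Module k M] (c : k) (x : M) : c • x = e c • x := by
  have h : c = ((e c : ℤ) : k) := by
    apply e.injective
    rw [map_intCast]
    rfl
  conv_lhs => rw [h]
  exact Int.cast_smul_eq_zsmul k (e c) x

/-- Additive maps are linear. -/
def toLin {M N : Type (u + 1)} [AddCommGroup M] [AddCommGroup N] [Module k M] [Module k N]
    (f : M →+ N) : M →ₗ[k] N where
  toFun := f
  map_add' := f.map_add
  map_smul' c x := by
    rw [smul_eq e, RingHom.id_apply, smul_eq e, map_zsmul]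

@[simp] theorem toLin_apply {M N : Type (u + 1)} [AddCommGroup M] [AddCommGroup N] [Module k M]
    [Module k N] (f : M →+ N) (x : M) : toLin e f x = f x := rfl

end Lin

variable {k : Type (u + 1)} [CommRing k] (e : k ≃+* ℤ)

variable {X : Scheme.{u}} (Y : X.Etale) {G : Type (u + 1)} [Group G] (σ : G →* Aut Y)

/-- The action of `g` on the sections over `Y`. -/
def act (F : EtCoh.Ab X) (g : G) : EtCoh.sect F Y →+ EtCoh.sect F Y := (F.obj.map (σ g).inv.op).hom

theorem act_one (F : EtCoh.Ab X) (x : EtCoh.sect F Y) : act Y σ F 1 x = x := by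
  have h : (σ 1).inv = 𝟙 Y := by
    rw [map_one]
    rfl
  have h2 : F.obj.map (σ 1).inv.op = 𝟙 _ := by rw [h, op_id, F.obj.map_id]
  exact congrArg (fun t : F.obj.obj (op Y) ⟶ F.obj.obj (op Y) => t.hom x) h2

theorem act_mul (F : EtCoh.Ab X) (g h : G) (x : EtCoh.sect F Y) :
    act Y σ F (g * h) x = act Y σ F g (act Y σ F h x) := by
  have h1 : (σ (g * h)).inv = (σ g).inv ≫ (σ h).inv := by
    rw [map_mul]
    rfl
  have h2 : F.obj.map (σ (g * h)).inv.op = F.obj.map (σ h).inv.op ≫ F.obj.map (σ g).inv.op := by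
    rw [h1, op_comp, F.obj.map_comp]
  exact congrArg (fun t : F.obj.obj (op Y) ⟶ F.obj.obj (op Y) => t.hom x) h2

/-- The module structure on sections. -/
@[implicit_reducible]
def secMod (F : EtCoh.Ab X) : Module k (EtCoh.sect F Y) := Module.compHom _ (e : k →+* ℤ)



/-- The representation on the sections over `Y`. -/
def secρ (F : EtCoh.Ab X) :
    letI := secMod e Y F
    Representation k G (EtCoh.sect F Y) :=
  letI := secMod e Y F
  { toFun := fun g => toLin e (act Y σ F g)
    map_one' := LinearMap.ext fun x => act_one Y σ F x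
    map_mul' := fun g h => LinearMap.ext fun x => act_mul Y σ F g h x }

theorem act_map {F F' : EtCoh.Ab X} (φ : F ⟶ F') (g : G) (x : EtCoh.sect F Y) :
    φ.hom.app (op Y) (act Y σ F g x) = act Y σ F' g (φ.hom.app (op Y) x) :=
  ConcreteCategory.congr_hom (φ.hom.naturality (σ g).inv.op) x

/-- The representation on the sections over `Y`. -/
noncomputable def Tobj (F : EtCoh.Ab X) : Rep.{u + 1} k G :=
  letI := secMod e Y F
  Rep.of (secρ e Y σ F)

/-- The map on sections, as a morphism. -/
noncomputable def Tmap {F F' : EtCoh.Ab X} (φ : F ⟶ F') : Tobj e Y σ F ⟶ Tobj e Y σ F' :=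
  letI := secMod e Y F
  letI := secMod e Y F'
  Rep.ofHom
    { toLinearMap := toLin e (φ.hom.app (op Y)).hom
      isIntertwining' := fun g => LinearMap.ext fun x => act_map Y σ φ g x }

/-- `F ↦ F(Y)` with the action of `G`. -/
noncomputable def T : EtCoh.Ab X ⥤ Rep.{u + 1} k G where
  obj F := Tobj e Y σ F
  map φ := Tmap e Y σ φ
  map_id F := rfl
  map_comp φ ψ := rfl

instance : (T e Y σ).Additive where
  map_add := rfl

theorem T_map_apply {F F' : EtCoh.Ab X} (φ : F ⟶ F') (x : EtCoh.sect F Y) :
    ((T e Y σ).map φ).hom x = φ.hom.app (op Y) x := rfl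

theorem T_ρ (F : EtCoh.Ab X) (g : G) (x : EtCoh.sect F Y) :
    ((T e Y σ).obj F).ρ g x = act Y σ F g x := rfl

variable (k G) in
/-- The forgetful functor from representations to abelian groups. -/
noncomputable abbrev W : Rep.{u + 1} k G ⥤ AddCommGrpCat.{u + 1} :=
  forget₂ (Rep.{u + 1} k G) (ModuleCat.{u + 1} k) ⋙ forget₂ (ModuleCat.{u + 1} k) AddCommGrpCat.{u + 1}

/-- Sections over `Y`. -/
noncomputable abbrev ev : EtCoh.Ab X ⥤ AddCommGrpCat.{u + 1} :=
  sheafToPresheaf X.smallEtaleTopology AddCommGrpCat.{u + 1} ⋙ (evaluation _ _).obj (op Y)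

/-- Forgetting the action. -/
noncomputable def TW : T e Y σ ⋙ W k G ≅ ev Y :=
  NatIso.ofComponents (fun F => Iso.refl (AddCommGrpCat.of (EtCoh.sect F Y))) (fun φ => rfl)

instance : (W k G).Additive := inferInstance

instance : PreservesFiniteLimits (W k G) := comp_preservesFiniteLimits _ _

instance : PreservesFiniteColimits (forget₂ (ModuleCat.{u + 1} k) AddCommGrpCat.{u + 1}) := by
  refine ⟨fun J _ _ => ?_⟩
  infer_instance

instance : PreservesFiniteColimits (W k G) := comp_preservesFiniteColimits _ _

instance : (W k G).ReflectsIsomorphisms := inferInstance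

instance : PreservesFiniteLimits (ev Y) := comp_preservesFiniteLimits _ _

instance : PreservesFiniteLimits (T e Y σ) := by
  have : PreservesFiniteLimits (T e Y σ ⋙ W k G) := preservesFiniteLimits_of_natIso (TW e Y σ).symm
  exact preservesFiniteLimits_of_reflects_of_preserves (T e Y σ) (W k G)

end K300.HS
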