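import Mathlib.AlgebraicGeometry.AffineTransitionLimit
import Mathlib.AlgebraicGeometry.Morphisms.Integral

/-!
# A cofiltered limit of integral `S`-schemes is integral over `S`
-/

set_option autoImplicit false
universe u
open CategoryTheory CategoryTheory.Limits AlgebraicGeometry Opposite

namespace K300.LimIntegral

variable {I : Type u} [SmallCategory I] [IsCofiltered I]

theorem isIntegralHom_map {S : Scheme.{u}} {X Y : Over S} (f : X ⟶ Y) [IsIntegralHom X.hom]
    [IsIntegralHom Y.hom] : IsIntegralHom f.left := by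
  have h : IsIntegralHom (f.left ≫ Y.hom) := by
    rw [Over.w f]
    infer_instance
  exact IsIntegralHom.of_comp f.left Y.hom

theorem isIntegralHom_of_isAffine {S : Scheme.{u}} [IsAffine S] (D : I ⥤ Over S)
    (h : ∀ i, IsIntegralHom (D.obj i).hom) (c : Cone D) (hc : IsLimit c) :
    IsIntegralHom c.pt.hom := by
  let D' : I ⥤ Scheme.{u} := D ⋙ Over.forget S
  let c' : Cone D' := (Over.forget S).mapCone c
  have hc' : IsLimit c' := isLimitOfPreserves (Over.forget S) hc
  have haff : ∀ i, IsAffine (D'.obj i) := fun i =>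
    @isAffine_of_isAffineHom _ _ (D.obj i).hom (h i).toIsAffineHom ‹IsAffine S›
  have haffm : ∀ {i j : I} (f : i ⟶ j), IsAffineHom (D'.map f) := fun {i j} f => by
    have := isIntegralHom_map (D.map f)
    exact inferInstanceAs (IsAffineHom (D.map f).left)
  obtain ⟨i₀⟩ := IsCofiltered.nonempty (C := I)
  have h1 : IsAffine c'.pt := by
    have := isAffineHom_π_app D' c' hc' i₀
    exact isAffine_of_isAffineHom (c'.π.app i₀)
  have h1' : IsAffine c.pt.left := h1
  rw [HasAffineProperty.iff_of_isAffine (P := @IsIntegralHom)]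
  refine ⟨h1', fun b => ?_⟩
  obtain ⟨i, t, ht⟩ := exists_appTop_π_eq_of_isAffine_of_isLimit D' c' hc' b
  have h2 : ((D.obj i).hom.appTop).hom.IsIntegral := IsIntegralHom.isIntegral_app _ ⊤ (isAffineOpen_top S)
  have h3 := h2 t
  have h4 : c.pt.hom.appTop = (D.obj i).hom.appTop ≫ (c.π.app i).left.appTop := by
    rw [← Scheme.Hom.comp_appTop, Over.w]
    rfl
  change (c.pt.hom.appTop).hom.IsIntegralElem b
  rw [h4, CommRingCat.hom_comp]
  obtain ⟨p, hp, hp0⟩ := h3
  refine ⟨p, hp, ?_⟩
  rw [← Polynomial.eval₂_map]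
  have ht' : b = ((c.π.app i).left.appTop).hom t := ht.symm
  rw [ht', Polynomial.eval₂_map, ← Polynomial.hom_eval₂, hp0, map_zero]

/-- A cofiltered limit of integral `S`-schemes is integral over `S`. -/
theorem isIntegralHom {S : Scheme.{u}} (D : I ⥤ Over S)
    (h : ∀ i, IsIntegralHom (D.obj i).hom) (c : Cone D) (hc : IsLimit c) :
    IsIntegralHom c.pt.hom := by
  refine IsZariskiLocalAtTarget.of_openCover (P := @IsIntegralHom) S.affineCover fun j => ?_
  exact isIntegralHom_of_isAffine (D ⋙ Over.pullback (S.affineCover.f j))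
    (fun i => inferInstanceAs (IsIntegralHom (pullback.snd (D.obj i).hom (S.affineCover.f j))))
    ((Over.pullback (S.affineCover.f j)).mapCone c)
    (isLimitOfPreserves (Over.pullback (S.affineCover.f j)) hc)

end K300.LimIntegral
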