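import Groth.Prelude.Def_EtRestW
import Groth.Agent.EtpbcA.FLCExact

/-!
# Locally constant abelian sheaves with large value groups

* `lc_iff`: criterion for `EtRest.IsLocallyConstant` through `IsConstVia`.
* `constVia`: the isomorphism with a constant sheaf attached to `φ` with `IsConstVia F U φ`.
* `exists_local`: maps of locally constant sheaves with finite source are locally given by homomorphisms.
-/

set_option autoImplicit false
universe u
open CategoryTheory CategoryTheory.Limits AlgebraicGeometry Opposite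

namespace K300.LocConst

open Groth.Agent.EtpbcA.Germ Groth.Agent.EtpbcA.FLC Groth.Agent.EtpbcA

variable {X : Scheme.{u}}

section over

variable (F : EtCoh.Ab X) (U : X.Etale) {M : Type (u + 1)} [AddCommGroup M]

/-- The map from the constant presheaf on the over-site attached to a homomorphism
`M →+ F(U)`. -/
noncomputable def constToOver (φ : M →+ EtCoh.sect F U) :
    (Functor.const (Over U)ᵒᵖ).obj (AddCommGrpCat.of M) ⟶ (F.over U).obj where
  app V := AddCommGrpCat.ofHom ((Germ.res F V.unop.hom).comp φ)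
  naturality V W f := by
    ext m
    simp only [Functor.const_obj_obj, Functor.const_obj_map]
    change Germ.res F W.unop.hom (φ m) =
      Germ.res F f.unop.left (Germ.res F V.unop.hom (φ m))
    rw [← res_comp, Over.w]

lemma constToOver_app (φ : M →+ EtCoh.sect F U) (V : (Over U)ᵒᵖ) (m : M) :
    (constToOver F U φ).app V m = Germ.res F V.unop.hom (φ m) := rfl

lemma isLocallyBijective_constToOver (φ : M →+ EtCoh.sect F U) :
    (X.smallEtaleTopology.over U).W (constToOver F U φ) ↔ IsConstVia F U φ := by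
  rw [GrothendieckTopology.W_iff_isLocallyBijective]
  constructor
  · rintro ⟨h1, h2⟩
    refine IsConstVia.of_sections φ ?_ ?_
    · intro V g v m hm
      have := h1.equalizerSieve_mem (X := op (Over.mk g)) (m : M) (0 : M) (by
        rw [map_zero]
        exact hm)
      rw [GrothendieckTopology.mem_over_iff, mem_iff] at this
      obtain ⟨W, k, hk, w, hw⟩ := this v
      rw [Sieve.overEquiv_iff] at hk
      exact hk
    · intro V g v s
      have := h2.imageSieve_mem (U := Over.mk g) s
      rw [GrothendieckTopology.mem_over_iff, mem_iff] at this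
      obtain ⟨W, k, hk, w, hw⟩ := this v
      rw [Sieve.overEquiv_iff] at hk
      obtain ⟨m, hm⟩ := hk
      exact ⟨W, k, w, m, hw, hm.symm⟩
  · intro h
    refine ⟨⟨?_⟩, ⟨?_⟩⟩
    · intro V m m' e
      rw [GrothendieckTopology.mem_over_iff, mem_iff]
      intro v
      refine ⟨V.unop.left, 𝟙 _, ?_, v, rfl⟩
      rw [Sieve.overEquiv_iff]
      have : m = m' := h.injective V.unop.hom v e
      subst this
      rfl
    · intro V s
      rw [GrothendieckTopology.mem_over_iff, mem_iff]
      intro v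
      obtain ⟨W, k, w, m, hw, e⟩ := h.surjective V.hom v s
      refine ⟨W, k, ?_, w, hw⟩
      rw [Sieve.overEquiv_iff]
      exact ⟨m, e.symm⟩

/-- The map of sheaves `const M ⟶ F|_U` attached to `φ : M →+ F(U)`. -/
noncomputable def cm (φ : M →+ EtCoh.sect F U) :
    (constantSheaf (X.smallEtaleTopology.over U) AddCommGrpCat.{u + 1}).obj (AddCommGrpCat.of M) ⟶
      EtCoh.restr F U :=
  ((sheafificationAdjunction (X.smallEtaleTopology.over U) AddCommGrpCat.{u + 1}).homEquiv
    ((Functor.const (Over U)ᵒᵖ).obj (AddCommGrpCat.of M)) (EtCoh.restr F U)).symm (constToOver F U φ)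

theorem isIso_cm {φ : M →+ EtCoh.sect F U} (h : IsConstVia F U φ) : IsIso (cm F U φ) := by
  rw [← isLocallyBijective_constToOver, GrothendieckTopology.W_iff] at h
  rw [cm, Adjunction.homEquiv_counit]
  have h1 : IsIso ((presheafToSheaf (X.smallEtaleTopology.over U) AddCommGrpCat.{u + 1}).map
    (constToOver F U φ)) := h
  have h2 : IsIso ((sheafificationAdjunction (X.smallEtaleTopology.over U)
    AddCommGrpCat.{u + 1}).counit.app (F.over U)) := inferInstance
  exact @IsIso.comp_isIso _ _ _ _ _ _ _ h1 h2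

theorem exists_of_iso (e : EtCoh.restr F U ≅
      (constantSheaf (X.smallEtaleTopology.over U) AddCommGrpCat.{u + 1}).obj
        (AddCommGrpCat.of M)) : ∃ φ : M →+ EtCoh.sect F U, IsConstVia F U φ := by
  let P : (Over U)ᵒᵖ ⥤ AddCommGrpCat.{u + 1} :=
    (Functor.const (Over U)ᵒᵖ).obj (AddCommGrpCat.of M)
  let c : P ⟶ (F.over U).obj :=
    toSheafify (X.smallEtaleTopology.over U) P ≫ e.inv.hom
  have hc : (X.smallEtaleTopology.over U).W c :=
    MorphismProperty.comp_mem _ _ _ (GrothendieckTopology.W_toSheafify _ P)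
      ((GrothendieckTopology.W_sheafToPresheaf_map_iff_isIso _ e.inv).2 inferInstance)
  let φ : M →+ EtCoh.sect F U := (c.app (op (Over.mk (𝟙 U)))).hom
  have hφ : c = constToOver F U φ := by
    ext V m
    rw [constToOver_app]
    have := NatTrans.naturality_apply c (Over.homMk V.unop.hom : V.unop ⟶ Over.mk (𝟙 U)).op m
    exact this
  exact ⟨φ, by rwa [← isLocallyBijective_constToOver, ← hφ]⟩

/-- naturality of `cm` -/
theorem cm_natural {G : EtCoh.Ab X} {N : Type (u + 1)} [AddCommGroup N] (f : F ⟶ G)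
    (φ : M →+ EtCoh.sect F U) (ψ : N →+ EtCoh.sect G U) (h : M →+ N)
    (e : ∀ m, f.hom.app (op U) (φ m) = ψ (h m)) :
    cm F U φ ≫ (X.smallEtaleTopology.overPullback AddCommGrpCat.{u + 1} U).map f =
      (constantSheaf (X.smallEtaleTopology.over U) AddCommGrpCat.{u + 1}).map (AddCommGrpCat.ofHom h) ≫
        cm G U ψ := by
  have h1 := Adjunction.homEquiv_naturality_right_symm
    (sheafificationAdjunction (X.smallEtaleTopology.over U) AddCommGrpCat.{u + 1})
    (X := (Functor.const (Over U)ᵒᵖ).obj (AddCommGrpCat.of M)) (Y := EtCoh.restr F U)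
    (Y' := EtCoh.restr G U)
    (constToOver F U φ) ((X.smallEtaleTopology.overPullback AddCommGrpCat.{u + 1} U).map f)
  have h2 := Adjunction.homEquiv_naturality_left_symm
    (sheafificationAdjunction (X.smallEtaleTopology.over U) AddCommGrpCat.{u + 1})
    (X := (Functor.const (Over U)ᵒᵖ).obj (AddCommGrpCat.of N)) (Y := EtCoh.restr G U)
    (X' := (Functor.const (Over U)ᵒᵖ).obj (AddCommGrpCat.of M))
    ((Functor.const (Over U)ᵒᵖ).map (AddCommGrpCat.ofHom h)) (constToOver G U ψ)
  refine h1.symm.trans (Eq.trans ?_ h2)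
  congr 1
  ext V m
  change f.hom.app (op V.unop.left) (Germ.res F V.unop.hom (φ m)) = Germ.res G V.unop.hom (ψ (h m))
  rw [← e m]
  exact ev_res f V.unop.hom (φ m)

end over

/-- Criterion: locally constant sheaves via sections and geometric stalks. -/
theorem lc_iff (F : EtCoh.Ab X) :
    EtRest.IsLocallyConstant F ↔
      ∀ x : X, ∃ (U : X.Etale) (u : U.left) (M : Type (u + 1)) (_ : AddCommGroup M)
        (φ : M →+ EtCoh.sect F U), U.hom u = x ∧ IsConstVia F U φ := by
  constructor
  · rintro ⟨ι, U, hU, h⟩ x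
    obtain ⟨i, u, hu⟩ := hU x
    obtain ⟨M, iM, ⟨e⟩⟩ := h i
    obtain ⟨φ, hφ⟩ := exists_of_iso F (U i) e
    exact ⟨U i, u, M, inferInstance, φ, hu, hφ⟩
  · intro h
    choose U u M h1 φ h3 h4 using h
    refine ⟨X, U, fun x => ⟨x, u x, h3 x⟩, fun x => ⟨M x, h1 x, ⟨?_⟩⟩⟩
    have := isIso_cm F (U x) (h4 x)
    exact (asIso (cm F (U x) (φ x))).symm

/-- A map from a finite locally constant sheaf to a locally constant sheaf is locally given by
homomorphisms of groups. -/
theorem exists_local (F G : EtCoh.Ab X) (f : F ⟶ G)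
    (hF : EtCoh.IsFiniteLocallyConstant F) (hG : EtRest.IsLocallyConstant G) (x : X) :
    ∃ (U : X.Etale) (u : U.left) (_ : U.hom u = x) (M N : Type (u + 1)) (_ : AddCommGroup M)
      (_ : AddCommGroup N) (_ : Finite M) (h : M →+ N) (φ : M →+ EtCoh.sect F U) (ψ : N →+ EtCoh.sect G U),
      IsConstVia F U φ ∧ IsConstVia G U ψ ∧ ∀ m, f.hom.app (op U) (φ m) = ψ (h m) := by
  rw [flc_iff] at hF
  rw [lc_iff] at hG
  obtain ⟨U₁, u₁, M, _, _, φ₁, hu₁, hφ₁⟩ := hF x
  obtain ⟨U₂, u₂, N, _, ψ₂, hu₂, hψ₂⟩ := hG x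
  obtain ⟨Ω, _, _, ξ, hξ⟩ := exists_geomPt_aux X x
  obtain ⟨t₁, -⟩ := FLCExact.exists_fib ξ U₁ u₁ (hu₁.trans hξ.symm)
  obtain ⟨t₂, -⟩ := FLCExact.exists_fib ξ U₂ u₂ (hu₂.trans hξ.symm)
  obtain ⟨W, a, b, w, -, -⟩ := exists_common ξ U₁ U₂ t₁ t₂
  have hφ := hφ₁.res a
  have hψ := hψ₂.res b
  obtain ⟨V, g, t', h, -, hh⟩ := FLCExact.exists_local_hom ξ f w ((Germ.res F a).comp φ₁)
    ((Germ.res G b).comp ψ₂) hψ
  let eM : ULift.{u + 1} M ≃+ M := AddEquiv.ulift
  refine ⟨V, pt ξ t', ?_, ULift.{u + 1} M, N, inferInstance, inferInstance, inferInstance,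
    h.comp eM.toAddMonoidHom,
    ((Germ.res F g).comp ((Germ.res F a).comp φ₁)).comp eM.toAddMonoidHom,
    (Germ.res G g).comp ((Germ.res G b).comp ψ₂), ?_, hψ.res g, ?_⟩
  · rw [hom_pt, hξ]
  · exact (hφ.res g).comp_equiv eM
  · intro m
    exact hh m.down

end K300.LocConst
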