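import Groth.Prelude.Def_EtRestW
import Groth.Prelude.Def_EtMod2
import Groth.Agent.EtpbcA.PullFLC

/-!
# Inverse images of locally constant sheaves

* `isLC_pull`: inverse image of a locally constant abelian sheaf is locally constant.
* `isFTLC_pull`: inverse image of a finite type locally constant sheaf of modules is such.
-/

universe u

open CategoryTheory CategoryTheory.Limits AlgebraicGeometry Opposite

namespace K300.LocConstPull

open Groth.Agent.EtpbcA.PullFLC

/-- Inverse images of locally constant abelian sheaves are locally constant. -/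
theorem isLC_pull {X Y : Scheme.{u}} (f : X ⟶ Y) (F : EtCoh.Ab Y)
    (hF : EtRest.IsLocallyConstant F) :
    EtRest.IsLocallyConstant ((EtCoh.pull f).obj F) := by
  obtain ⟨ι, U, hU, h⟩ := hF
  refine ⟨ι, fun i => (EtCoh.bc f).obj (U i), covers_bc f U hU, fun i => ?_⟩
  obtain ⟨M, i1, ⟨e'⟩⟩ := h i
  exact ⟨M, i1, ⟨(pullOverPullback f (U i)).app F ≪≫ (pullOver f (U i)).mapIso e' ≪≫
    pullOverConst f (U i) _⟩⟩

section mod

variable (Λ : Type (u + 1)) [CommRing Λ] {X Y : Scheme.{u}} (f : X ⟶ Y) (U : Y.Etale)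

/-- Inverse image of modules on over-sites. -/
noncomputable abbrev pullOverM : Sheaf (Y.smallEtaleTopology.over U) (ModuleCat.{u + 1} Λ) ⥤
    Sheaf (X.smallEtaleTopology.over ((EtCoh.bc f).obj U)) (ModuleCat.{u + 1} Λ) :=
  (bcOver f U).sheafPullback (ModuleCat.{u + 1} Λ) (Y.smallEtaleTopology.over U)
    (X.smallEtaleTopology.over ((EtCoh.bc f).obj U))

/-- Direct image of modules on over-sites. -/
noncomputable abbrev pushOverM :
    Sheaf (X.smallEtaleTopology.over ((EtCoh.bc f).obj U)) (ModuleCat.{u + 1} Λ) ⥤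
    Sheaf (Y.smallEtaleTopology.over U) (ModuleCat.{u + 1} Λ) :=
  (bcOver f U).sheafPushforwardContinuous (ModuleCat.{u + 1} Λ) (Y.smallEtaleTopology.over U)
    (X.smallEtaleTopology.over ((EtCoh.bc f).obj U))

/-- Direct image from the over-site of `U`. -/
noncomputable abbrev starPushM :
    Sheaf (Y.smallEtaleTopology.over U) (ModuleCat.{u + 1} Λ) ⥤ EtModW.Mod Λ Y :=
  (Over.star U).sheafPushforwardContinuous (ModuleCat.{u + 1} Λ) Y.smallEtaleTopology
    (Y.smallEtaleTopology.over U)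

/-- Restriction to `U` is left adjoint to `starPushM`. -/
noncomputable def restrAdjM :
    Y.smallEtaleTopology.overPullback (ModuleCat.{u + 1} Λ) U ⊣ starPushM Λ U :=
  (Over.forgetAdjStar U).sheafPushforwardContinuous (E := ModuleCat.{u+1} Λ) _ _

/-- Direct image commutes with `starPushM`. -/
noncomputable def pushStarM :
    pushOverM Λ f U ⋙ starPushM Λ U ≅ starPushM Λ ((EtCoh.bc f).obj U) ⋙ EtModW.push Λ f :=
  haveI : (EtCoh.bc f ⋙ Over.star ((EtCoh.bc f).obj U)).IsContinuous Y.smallEtaleTopology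
    (X.smallEtaleTopology.over ((EtCoh.bc f).obj U)) :=
    Functor.isContinuous_comp _ _ _ X.smallEtaleTopology _
  Functor.sheafPushforwardContinuousComp' (F := Over.star U) (G := bcOver f U)
    (FG := EtCoh.bc f ⋙ Over.star ((EtCoh.bc f).obj U)) (starPost (EtCoh.bc f) U)
    (ModuleCat.{u + 1} Λ) _ _ _ ≪≫
  (Functor.sheafPushforwardContinuousComp' (F := EtCoh.bc f) (G := Over.star ((EtCoh.bc f).obj U))
    (FG := EtCoh.bc f ⋙ Over.star ((EtCoh.bc f).obj U)) (Iso.refl _)
    (ModuleCat.{u + 1} Λ) _ _ _).symm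

/-- Inverse image commutes with restriction to étale `U`. -/
noncomputable def pullOverPullbackM :
    EtModW.pull Λ f ⋙ X.smallEtaleTopology.overPullback (ModuleCat.{u + 1} Λ) ((EtCoh.bc f).obj U) ≅
      Y.smallEtaleTopology.overPullback (ModuleCat.{u + 1} Λ) U ⋙ pullOverM Λ f U :=
  Adjunction.leftAdjointUniq
    ((((EtCoh.bc f).sheafAdjunctionContinuous (ModuleCat.{u + 1} Λ) Y.smallEtaleTopology
      X.smallEtaleTopology).comp (restrAdjM Λ ((EtCoh.bc f).obj U))).ofNatIsoRight (pushStarM Λ f U).symm)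
    ((restrAdjM Λ U).comp ((bcOver f U).sheafAdjunctionContinuous (ModuleCat.{u + 1} Λ)
      (Y.smallEtaleTopology.over U) (X.smallEtaleTopology.over ((EtCoh.bc f).obj U))))

/-- Inverse image of the constant sheaf on the over-site of `U`. -/
noncomputable def pullOverConstM (M : ModuleCat.{u + 1} Λ) :
    (pullOverM Λ f U).obj ((constantSheaf (Y.smallEtaleTopology.over U) (ModuleCat.{u + 1} Λ)).obj M) ≅
      (constantSheaf (X.smallEtaleTopology.over ((EtCoh.bc f).obj U)) (ModuleCat.{u + 1} Λ)).obj M :=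
  (constPull (bcOver f U) (ModuleCat.{u + 1} Λ) (Y.smallEtaleTopology.over U)
    (X.smallEtaleTopology.over ((EtCoh.bc f).obj U)) Over.mkIdTerminal
    (IsTerminal.ofIso Over.mkIdTerminal (Over.isoMk (Iso.refl _) (by
      have h : ((bcOver f U).obj (Over.mk (𝟙 U))).hom = (EtCoh.bc f).map (𝟙 U) := rfl
      rw [h, CategoryTheory.Functor.map_id]
      exact Category.id_comp _)))).app M

end mod

/-- Inverse images of finite type locally constant sheaves of modules are such. -/
theorem isFTLC_pull {X Y : Scheme.{u}} (f : X ⟶ Y) (Λ : Type (u + 1)) [CommRing Λ]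
    (F : EtModW.Mod Λ Y) (hF : EtModW.IsFTLocConst Λ F) :
    EtModW.IsFTLocConst Λ ((EtModW.pull Λ f).obj F) := by
  obtain ⟨ι, U, hU, h⟩ := hF
  refine ⟨ι, fun i => (EtCoh.bc f).obj (U i), covers_bc f U hU, fun i => ?_⟩
  obtain ⟨M, i1, i2, i3, ⟨e'⟩⟩ := h i
  exact ⟨M, i1, i2, i3, ⟨(pullOverPullbackM Λ f (U i)).app F ≪≫ (pullOverM Λ f (U i)).mapIso e' ≪≫
    pullOverConstM Λ f (U i) _⟩⟩

end K300.LocConstPull
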