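import Groth.Agent.EtCore.K300.IntProps
import Mathlib.AlgebraicGeometry.ZariskisMainTheorem

/-!
# Condition (A) for separated locally quasi-finite morphisms
-/

set_option autoImplicit false
universe u

open CategoryTheory CategoryTheory.Limits AlgebraicGeometry Opposite

namespace K300.QFinPropA

open Groth.Agent Groth.Agent.Etbase

/-- Separated locally quasi-finite morphisms satisfy (A). -/
theorem propA {X Y : Scheme.{u}} (f : X ⟶ Y) [IsSeparated f] [LocallyQuasiFinite f]
    [LocallyOfFiniteType f] : BigSite.PropA f := by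
  intro U g _ u
  obtain ⟨V, v, hv, -, W₁, W₂, w, hcompl, hfin, hw⟩ :=
    exists_etale_isCompl_of_quasiFiniteAt f (x := g u) rfl (f.quasiFiniteAt (g u))
  have hW₁ : IsClosed (W₁ : Set ↥(pullback f v)) := by
    have h1 : (W₁ : Set ↥(pullback f v)) = (W₂ : Set ↥(pullback f v))ᶜ := by
      have h2 := hcompl.compl_eq
      have hd := hcompl.disjoint
      have hc := hcompl.codisjoint
      ext x
      constructor
      · intro hx hx2
        have : x ∈ (W₁ ⊓ W₂ : (pullback f v).Opens) := ⟨hx, hx2⟩
        rw [hd.eq_bot] at this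
        exact this
      · intro hx
        have : x ∈ (W₁ ⊔ W₂ : (pullback f v).Opens) := by rw [hc.eq_top]; trivial
        rcases this with h | h
        · exact h
        · exact absurd h hx
    rw [h1]
    exact W₂.2.isClosed_compl
  -- the étale scheme over `W₁`
  let q : (W₁ : Scheme.{u}) ⟶ X := W₁.ι ≫ pullback.fst f v
  have hq : q w = g u := hw
  obtain ⟨u₁, hu₁, hu₁'⟩ := Scheme.Pullback.exists_preimage_pullback (f := q) (g := g) w u hq
  have : IsIntegralHom (W₁.ι ≫ pullback.snd f v) := inferInstance
  obtain ⟨V', v', hv', W', hW', h, hh, hur⟩ :=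
    IntProps.propA (W₁.ι ≫ pullback.snd f v) (pullback q g) (pullback.fst q g) u₁
  let P2 := pullback f (v' ≫ v)
  let m : pullback f (v' ≫ v) ⟶ pullback f v :=
    pullback.lift (pullback.fst f (v' ≫ v)) (pullback.snd f (v' ≫ v) ≫ v')
      (by rw [Category.assoc, pullback.condition])
  have hm1 : m ≫ pullback.fst f v = pullback.fst f (v' ≫ v) := pullback.lift_fst _ _ _
  have hm2 : m ≫ pullback.snd f v = pullback.snd f (v' ≫ v) ≫ v' := pullback.lift_snd _ _ _
  have sq1 : IsPullback m (pullback.snd f (v' ≫ v)) (pullback.snd f v) v' := by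
    refine IsPullback.of_right ?_ hm2 (IsPullback.of_hasPullback f v)
    rw [hm1]
    exact IsPullback.of_hasPullback _ _
  let c : pullback (W₁.ι ≫ pullback.snd f v) v' ⟶ pullback f (v' ≫ v) :=
    pullback.lift (pullback.fst _ _ ≫ q) (pullback.snd _ _) (by
      rw [Category.assoc, Category.assoc, pullback.condition (f := f) (g := v),
        ← pullback.condition_assoc]
      simp only [Category.assoc])
  have hc1 : c ≫ pullback.fst f (v' ≫ v) = pullback.fst _ _ ≫ q := pullback.lift_fst _ _ _
  have hc2 : c ≫ pullback.snd f (v' ≫ v) = pullback.snd _ _ := pullback.lift_snd _ _ _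
  have sq2 : IsPullback (pullback.fst (W₁.ι ≫ pullback.snd f v) v') c W₁.ι m := by
    refine IsPullback.of_bot ?_ ?_ sq1
    · rw [hc2]
      exact IsPullback.of_hasPullback _ _
    · apply pullback.hom_ext
      · rw [Category.assoc, Category.assoc, hm1, hc1]
      · rw [Category.assoc, Category.assoc, hm2, ← Category.assoc c, hc2, ← pullback.condition]
  have hco : IsOpenImmersion c := MorphismProperty.of_isPullback (P := @IsOpenImmersion) sq2 inferInstance
  have hcr : Set.range c = m ⁻¹' (W₁ : Set ↥(pullback f v)) := by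
    ext x
    constructor
    · rintro ⟨z, rfl⟩
      have h3 := congrArg (fun t : pullback (W₁.ι ≫ pullback.snd f v) v' ⟶ pullback f v => t z) sq2.w
      have h4 : m (c z) = W₁.ι (pullback.fst (W₁.ι ≫ pullback.snd f v) v' z) := h3.symm
      change m (c z) ∈ W₁
      rw [h4]
      exact Subtype.property _
    · intro hx
      obtain ⟨z, -, hz⟩ := AlgebraicGeometry.Scheme.exists_preimage_of_isPullback sq2 ⟨m x, hx⟩ x rfl
      exact ⟨z, hz⟩
  have hcc : Topology.IsClosedEmbedding c :=
    ⟨c.isOpenEmbedding.isEmbedding, by rw [hcr]; exact hW₁.preimage m.continuous⟩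
  let j : (W' : Scheme.{u}) ⟶ pullback f (v' ≫ v) := W'.ι ≫ c
  have hjr : Set.range j = c '' (W' : Set _) := by
    have : Set.range j = c '' (Set.range W'.ι) := by
      rw [← Set.range_comp]
      rfl
    rw [this, Scheme.Opens.range_ι]
  refine ⟨V', v' ≫ v, inferInstance, j.opensRange, ?_,
    j.isoOpensRange.inv ≫ h ≫ pullback.snd q g, ?_, ?_⟩
  · have : (j.opensRange : Set ↥(pullback f (v' ≫ v))) = c '' (W' : Set _) := hjr
    rw [this]
    exact hcc.isClosedMap _ hW'
  · have e1 : h ≫ pullback.snd q g ≫ g = j ≫ pullback.fst f (v' ≫ v) := by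
      rw [← pullback.condition, ← Category.assoc, hh, Category.assoc, Category.assoc, hc1]
    have e2 : j.isoOpensRange.inv ≫ j = j.opensRange.ι := by
      rw [Iso.inv_comp_eq]
      exact (Scheme.Hom.isoOpensRange_hom_ι j).symm
    rw [Category.assoc, Category.assoc, e1, ← Category.assoc, e2]
  · obtain ⟨z, hz⟩ := hur
    refine ⟨j.isoOpensRange.hom z, ?_⟩
    rw [← Scheme.Hom.comp_apply, Iso.hom_inv_id_assoc, Scheme.Hom.comp_apply]
    exact (congrArg _ hz).trans hu₁'

end K300.QFinPropA
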