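import Groth.Agent.EtCore.K300.DeltaTools
import Groth.Agent.Etcore.StalkLimN
import Groth.Agent.RDer.K887.LES

/-!
# The stalk of higher direct images along a qcqs morphism, naturally in the sheaf

* `stalkDelta f ξ` : the delta-functor `n ↦ R^n f_* ⋙ stalk`;
* `hDelta X` : the delta-functor `n ↦ H^n(X, -)`;
* `hZeroIso X` : `H^0(X, -) ≅ Γ(X, -)`;
* `nonempty_stalk_Rpush_natIso`.
-/

set_option autoImplicit false
universe u
open CategoryTheory CategoryTheory.Limits AlgebraicGeometry Opposite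

namespace K300.StalkRpushNat

open Groth.Agent.EtpbcB Groth.Agent.EtpbcB.StrictLoc Groth.Agent.EtpbcB.SepClosedPoint
open Groth.Agent.EtpbcB.NKillEt Groth.Agent.EtpbcB.NKillOpen Groth.Agent.EtpbcB.GammaRpush
open Groth.Agent.Etcore K300.DeltaTools

/-- The delta-functor of the derived functors of an additive functor. -/
noncomputable def rdDelta {C D : Type*} [Category* C] [Abelian C] [EnoughInjectives C] [Category* D] [Abelian D]
    (F : C ⥤ D) [F.Additive] : DeltaF.CohDeltaFunctor C D ℕ :=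
  (K887.LES.derivedLES F).toCohDeltaFunctor

theorem rdDelta_F {C D : Type*} [Category* C] [Abelian C] [EnoughInjectives C] [Category* D] [Abelian D]
    (F : C ⥤ D) [F.Additive] (n : ℕ) : (rdDelta F).F n = F.rightDerived n := rfl

/-- The delta-functor `H^n(X, -)`. -/
noncomputable def hDelta (X : Scheme.{u}) : DeltaF.CohDeltaFunctor (EtCoh.Ab X) AddCommGrpCat.{u + 1} ℕ :=
  extDelta (ZX X)

theorem hDelta_F (X : Scheme.{u}) (n : ℕ) : (hDelta X).F n = EtCoh.HF X n := rfl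

/-- `H^0(X, F) ≅ Γ(X, F)` -/
noncomputable def hZeroObj (X : Scheme.{u}) (F : EtCoh.Ab X) : (EtCoh.HF X 0).obj F ≅ (Γtop X).obj F :=
  (Sheaf.H.equiv₀ F (topIsTerminal X)).toAddCommGrpIso

theorem hZeroObj_naturality (X : Scheme.{u}) {F G : EtCoh.Ab X} (g : F ⟶ G) :
    (EtCoh.HF X 0).map g ≫ (hZeroObj X G).hom = (hZeroObj X F).hom ≫ (Γtop X).map g := by
  refine AddCommGrpCat.hom_ext (AddMonoidHom.ext fun x => ?_)
  exact (Sheaf.H.equiv₀_naturality (topIsTerminal X) g x).symm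

/-- `H^0(X, -) ≅ Γ(X, -)` -/
noncomputable def hZeroIso (X : Scheme.{u}) : EtCoh.HF X 0 ≅ Γtop X :=
  NatIso.ofComponents (hZeroObj X) (hZeroObj_naturality X)

variable {X Y : Scheme.{u}} (f : X ⟶ Y) {Ω : Type u} [Field Ω] [IsSepClosed Ω]
  (ξ : Spec (CommRingCat.of Ω) ⟶ Y) {XA : Scheme.{u}} {fA : XA ⟶ Spec (Osh ξ)} {a : XA ⟶ X}
  (h : IsPullback a fA f (toBase ξ))

/-- The delta-functor `n ↦ R^n f_* ⋙ stalk`. -/
noncomputable def stalkDelta : DeltaF.CohDeltaFunctor (EtCoh.Ab X) AddCommGrpCat.{u + 1} ℕ :=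
  postComp (rdDelta (EtCoh.push f)) (EtCoh.stalk ξ)

/-- The delta-functor `n ↦ H^n(XA, a^* -)`. -/
noncomputable def pullDelta : DeltaF.CohDeltaFunctor (EtCoh.Ab X) AddCommGrpCat.{u + 1} ℕ :=
  preComp (EtCoh.pull a) (hDelta XA)

theorem stalkDelta_eff : (stalkDelta f ξ).IsEffaceable := by
  rw [K988.DeltaFUniv.isEffaceable_iff]
  intro n I hI
  exact (EtCoh.stalk ξ).map_isZero ((EtCoh.push f).isZero_rightDerived_obj_injective_succ n I)

include h in
theorem pullDelta_eff [QuasiCompact f] [QuasiSeparated f] : (pullDelta (a := a)).IsEffaceable := by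
  rw [K988.DeltaFUniv.isEffaceable_iff]
  intro n I hI
  have h1 : Subsingleton (EtCoh.H XA ((EtCoh.pull a).obj I) (n + 1)) :=
    StalkLimN.subsingleton_H_pull f ξ h I (Nat.succ_pos n)
  exact @AddCommGrpCat.isZero_of_subsingleton (AddCommGrpCat.of (EtCoh.H XA ((EtCoh.pull a).obj I) (n + 1))) h1

include h in
theorem nonempty_stalk_Rpush_natIso [QuasiCompact f] [QuasiSeparated f] (n : ℕ) :
    Nonempty (EtCoh.Rpush f n ⋙ EtCoh.stalk ξ ≅ EtCoh.pull a ⋙ EtCoh.HF XA n) :=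
  nonempty_iso_of_effaceable (stalkDelta f ξ) (pullDelta (a := a)) (stalkDelta_eff f ξ)
    (pullDelta_eff f ξ h)
    (Functor.isoWhiskerRight ((EtCoh.push f).rightDerivedZeroIsoSelf) (EtCoh.stalk ξ) ≪≫
      StalkLim.stalkPushIso f ξ h ≪≫ Functor.isoWhiskerLeft (EtCoh.pull a) (hZeroIso XA).symm) n

end K300.StalkRpushNat
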